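import Cfsg.Agent.Lib.Char.SylowNine.Frame

/-!
# The fusion patterns of the Klein four-group and of the inversion

In both cases the Sylow subgroup is normal: a product of two differences of columns is supported on a
single character, whose degree is then at least a fixed fraction of the group order.
-/

set_option autoImplicit false

open scoped Classical

namespace CfsgLib.Char.SylowNine

open Cfsg CfsgLib

variable {G : Type*} [Group G] [Fintype G] {S : Subgroup G}

theorem small_prod {a b : ℤ} (ha : a = -1 ∨ a = 0 ∨ a = 1) (hb : b = -1 ∨ b = 0 ∨ b = 1) :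
    a * b = 0 ∨ a * b = 1 ∨ (a * b = -1 ∧ (a - b) * (a - b) = 4) := by
  rcases ha with h | h | h <;> rcases hb with h' | h' | h' <;> subst h <;> subst h' <;> norm_num

namespace Coord

section

variable {ι : Type} [DecidableEq ι] (C : Coord S ι)

omit [DecidableEq ι] in
/-- A column supported on one character bounds the group order. -/
theorem card_le_sq (a u : IrrCharacter G → ℤ) (K : ℕ) (hK : 0 < K) (h01 : ∀ χ, a χ = 0 ∨ a χ = 1)
    (hsum : ∑ χ, a χ = 1)
    (heq : (∑ χ : IrrCharacter G, (a χ : ℚ) * u χ / (charDegree (χ : G → ℂ) : ℚ)) * (Nat.card G : ℚ) = -K) :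
    Nat.card G ≤ K ^ 2 := by
  obtain ⟨χ, -, hχ⟩ := Finset.exists_ne_zero_of_sum_ne_zero (by rw [hsum]; norm_num : (∑ χ, a χ) ≠ 0)
  have h1 : a χ = 1 := (h01 χ).resolve_left hχ
  have h0 : ∀ ψ, ψ ≠ χ → a ψ = 0 := by
    intro ψ hψ
    refine (h01 ψ).resolve_right fun h => ?_
    have h2 := Finset.sum_le_sum_of_subset_of_nonneg (f := a) (Finset.subset_univ {χ, ψ})
      fun i _ _ => by rcases h01 i with h | h <;> omega
    rw [Finset.sum_pair hψ.symm, hsum, h1, h] at h2
    omega
  rw [Finset.sum_eq_single χ (fun ψ _ hψ => by rw [h0 ψ hψ]; simp) (by simp), h1, Int.cast_one,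
    one_mul] at heq
  have hd : (0 : ℚ) < (charDegree (χ : G → ℂ) : ℚ) := by exact_mod_cast Blocks.charDegree_pos χ
  rw [div_mul_eq_mul_div, div_eq_iff hd.ne'] at heq
  have heq' : u χ * (Nat.card G : ℤ) = -(K : ℤ) * (charDegree (χ : G → ℂ) : ℤ) := by exact_mod_cast heq
  have hu : u χ ≤ -1 := by
    have hd' : (0 : ℤ) < charDegree (χ : G → ℂ) := by exact_mod_cast Blocks.charDegree_pos χ
    have hg : (0 : ℤ) < Nat.card G := by exact_mod_cast Nat.card_pos
    have hk : (0 : ℤ) < K := by exact_mod_cast hK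
    nlinarith [mul_pos hk hd']
  have hsq := deg_sq_le χ
  have hle : (Nat.card G : ℤ) ≤ (K : ℤ) * (charDegree (χ : G → ℂ) : ℤ) := by
    nlinarith [Int.natCast_nonneg (Nat.card G)]
  have hle' : Nat.card G ≤ K * charDegree (χ : G → ℂ) := by exact_mod_cast hle
  have hpos : 0 < Nat.card G := Nat.card_pos
  have h3 : Nat.card G * Nat.card G ≤ K ^ 2 * Nat.card G :=
    calc Nat.card G * Nat.card G ≤ (K * charDegree (χ : G → ℂ)) * (K * charDegree (χ : G → ℂ)) :=
          Nat.mul_le_mul hle' hle'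
      _ = K ^ 2 * charDegree (χ : G → ℂ) ^ 2 := by ring
      _ ≤ K ^ 2 * Nat.card G := Nat.mul_le_mul_left _ hsq
  exact Nat.le_of_mul_le_mul_right h3 hpos

omit [DecidableEq ι] in
include C in
/-- A small group has a normal Sylow subgroup. -/
theorem card_eq_of_le {n K : ℕ} (hn : Nat.card (Subgroup.normalizer (S : Set G)) = n)
    (hK : K < 10 * n) (hle : Nat.card G ≤ K) : Subgroup.normalizer (S : Set G) = ⊤ := by
  obtain ⟨k, hk, hk9⟩ := C.index_mod
  rw [hn] at hk
  have : k = 1 := by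
    by_contra hne
    have h10 : 10 ≤ k := by omega
    have : n * 10 ≤ n * k := Nat.mul_le_mul_left _ h10
    omega
  subst this
  exact Subgroup.eq_top_of_card_eq _ (by rw [hn, hk, mul_one])

end

/-- The pattern of the Klein four-group. -/
def clsKlein (p : Pl) : Bool × Bool := (decide (p.1 ≠ 0), decide (p.2 ≠ 0))

/-- The pattern of the inversion. -/
def clsLines (p : Pl) : Finset Pl := {p, -p}

set_option maxHeartbeats 1000000 in
theorem klein_normal (C : Coord S (Bool × Bool)) (hcls : ∀ p, C.cls p = clsKlein p)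
    (hN : Nat.card (Subgroup.normalizer (S : Set G)) = 36) : Subgroup.normalizer (S : Set G) = ⊤ := by
  have hc : C.cls = clsKlein := funext hcls
  have hfib : ∀ {p : Pl}, p ≠ 0 → C.cent p * (Finset.univ.filter fun q => clsKlein q = clsKlein p).card = 36 := by
    intro p hp
    have := C.cent_mul_fiber hp
    rwa [hN, hc] at this
  have c1 : C.cent (1, 0) = 18 := by
    have := hfib (p := (1, 0)) (by decide)
    rw [show (Finset.univ.filter fun q => clsKlein q = clsKlein ((1, 0) : Pl)).card = 2 by decide] at this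
    omega
  have c2 : C.cent (0, 1) = 18 := by
    have := hfib (p := (0, 1)) (by decide)
    rw [show (Finset.univ.filter fun q => clsKlein q = clsKlein ((0, 1) : Pl)).card = 2 by decide] at this
    omega
  have c3 : C.cent (1, 1) = 9 := by
    have := hfib (p := (1, 1)) (by decide)
    rw [show (Finset.univ.filter fun q => clsKlein q = clsKlein ((1, 1) : Pl)).card = 4 by decide] at this
    omega
  have O : ∀ p q : Pl, ∑ χ : IrrCharacter G, C.val χ p * C.val χ q
      = if clsKlein p = clsKlein q then (C.cent q : ℤ) else 0 := fun p q => by rw [C.orth p q, hc]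
  have T : ∀ (p q r : Pl), r ≠ 0 → ¬ (clsKlein p = clsKlein q ∧ clsKlein p = clsKlein r) →
      (∑ χ : IrrCharacter G, (C.val χ p : ℚ) * C.val χ q * C.val χ r / (charDegree (χ : G → ℂ) : ℚ))
        * (Nat.card G : ℚ)
      = (((Finset.univ.filter fun a => clsKlein a = clsKlein p ∧ clsKlein (r - a) = clsKlein q).card : ℕ) : ℚ)
        * C.cent p * C.cent q := by
    intro p q r hr hne
    have := C.triple p q r hr (by rwa [hc])
    rwa [cnt, hc] at this
  set x := fun χ => C.val χ (1, 0) with hx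
  set y := fun χ => C.val χ (0, 1) with hy
  set z := fun χ => C.val χ (1, 1) with hz
  choose a ha using fun χ => C.val_congr χ (1, 0) (1, 1)
  choose b hb using fun χ => C.val_congr χ (0, 1) (1, 1)
  have ha' : ∀ χ, x χ - z χ = 3 * a χ := ha
  have hb' : ∀ χ, y χ - z χ = 3 * b χ := hb
  have oxx : ∑ χ, x χ * x χ = 18 := by rw [O (1, 0) (1, 0), if_pos rfl, c1]; norm_num
  have oyy : ∑ χ, y χ * y χ = 18 := by rw [O (0, 1) (0, 1), if_pos rfl, c2]; norm_num
  have ozz : ∑ χ, z χ * z χ = 9 := by rw [O (1, 1) (1, 1), if_pos rfl, c3]; norm_num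
  have oxy : ∑ χ, x χ * y χ = 0 := by rw [O (1, 0) (0, 1), if_neg (by decide)]
  have oxz : ∑ χ, x χ * z χ = 0 := by rw [O (1, 0) (1, 1), if_neg (by decide)]
  have oyz : ∑ χ, y χ * z χ = 0 := by rw [O (0, 1) (1, 1), if_neg (by decide)]
  have saa : ∑ χ, a χ * a χ = 3 := by
    have e : ∑ χ, 9 * (a χ * a χ) = ∑ χ, (x χ * x χ - 2 * (x χ * z χ) + z χ * z χ) :=
      Finset.sum_congr rfl fun χ _ => by linear_combination (-(x χ - z χ) - 3 * a χ) * ha' χ
    rw [← Finset.mul_sum, Finset.sum_add_distrib, Finset.sum_sub_distrib, ← Finset.mul_sum, oxx, oxz,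
      ozz] at e
    omega
  have sbb : ∑ χ, b χ * b χ = 3 := by
    have e : ∑ χ, 9 * (b χ * b χ) = ∑ χ, (y χ * y χ - 2 * (y χ * z χ) + z χ * z χ) :=
      Finset.sum_congr rfl fun χ _ => by linear_combination (-(y χ - z χ) - 3 * b χ) * hb' χ
    rw [← Finset.mul_sum, Finset.sum_add_distrib, Finset.sum_sub_distrib, ← Finset.mul_sum, oyy, oyz,
      ozz] at e
    omega
  have sab : ∑ χ, a χ * b χ = 1 := by
    have e : ∑ χ, 9 * (a χ * b χ) = ∑ χ, (x χ * y χ - x χ * z χ - y χ * z χ + z χ * z χ) :=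
      Finset.sum_congr rfl fun χ _ => by linear_combination (-(y χ - z χ)) * ha' χ - 3 * a χ * hb' χ
    rw [← Finset.mul_sum, Finset.sum_add_distrib, Finset.sum_sub_distrib, Finset.sum_sub_distrib, oxy,
      oxz, oyz, ozz] at e
    omega
  -- the two structure constant identities
  have t1 := T (1, 0) (1, 0) (0, 1) (by decide) (by decide)
  have t2 := T (1, 0) (0, 1) (1, 1) (by decide) (by decide)
  have t3 := T (1, 0) (1, 1) (1, 1) (by decide) (by decide)
  have t4 := T (1, 0) (1, 0) (1, 1) (by decide) (by decide)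
  have t5 := T (0, 1) (0, 1) (1, 0) (by decide) (by decide)
  have t7 := T (0, 1) (1, 1) (1, 1) (by decide) (by decide)
  have t8 := T (0, 1) (0, 1) (1, 1) (by decide) (by decide)
  rw [c1, show (Finset.univ.filter fun a => clsKlein a = clsKlein ((1, 0) : Pl) ∧
    clsKlein ((0, 1) - a) = clsKlein (1, 0)).card = 0 by decide] at t1
  rw [c1, c2, show (Finset.univ.filter fun a => clsKlein a = clsKlein ((1, 0) : Pl) ∧
    clsKlein ((1, 1) - a) = clsKlein (0, 1)).card = 1 by decide] at t2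
  rw [c1, c3, show (Finset.univ.filter fun a => clsKlein a = clsKlein ((1, 0) : Pl) ∧
    clsKlein ((1, 1) - a) = clsKlein (1, 1)).card = 1 by decide] at t3
  rw [c1, show (Finset.univ.filter fun a => clsKlein a = clsKlein ((1, 0) : Pl) ∧
    clsKlein ((1, 1) - a) = clsKlein (1, 0)).card = 0 by decide] at t4
  rw [c2, show (Finset.univ.filter fun a => clsKlein a = clsKlein ((0, 1) : Pl) ∧
    clsKlein ((1, 0) - a) = clsKlein (0, 1)).card = 0 by decide] at t5
  rw [c2, c3, show (Finset.univ.filter fun a => clsKlein a = clsKlein ((0, 1) : Pl) ∧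
    clsKlein ((1, 1) - a) = clsKlein (1, 1)).card = 1 by decide] at t7
  rw [c2, show (Finset.univ.filter fun a => clsKlein a = clsKlein ((0, 1) : Pl) ∧
    clsKlein ((1, 1) - a) = clsKlein (0, 1)).card = 0 by decide] at t8
  have hG : (Nat.card G : ℚ) ≠ 0 := by exact_mod_cast Nat.card_pos.ne'
  have hab : ∀ χ, (x χ : ℚ) - z χ = 3 * a χ ∧ (y χ : ℚ) - z χ = 3 * b χ := fun χ =>
    ⟨by exact_mod_cast ha' χ, by exact_mod_cast hb' χ⟩
  have ex : (∑ χ : IrrCharacter G, ((a χ * b χ : ℤ) : ℚ) * x χ / (charDegree (χ : G → ℂ) : ℚ))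
      * (Nat.card G : ℚ) = -18 := by
    have e : ∀ χ : IrrCharacter G, ((a χ * b χ : ℤ) : ℚ) * x χ / (charDegree (χ : G → ℂ) : ℚ)
        = ((x χ : ℚ) * x χ * y χ / (charDegree (χ : G → ℂ) : ℚ)
          - (x χ : ℚ) * x χ * z χ / (charDegree (χ : G → ℂ) : ℚ)
          - (x χ : ℚ) * y χ * z χ / (charDegree (χ : G → ℂ) : ℚ)
          + (x χ : ℚ) * z χ * z χ / (charDegree (χ : G → ℂ) : ℚ)) / 9 := by
      intro χ
      have : (x χ : ℚ) * x χ * y χ - x χ * x χ * z χ - x χ * y χ * z χ + x χ * z χ * z χ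
          = 9 * ((a χ : ℚ) * b χ * x χ) := by
        linear_combination (x χ : ℚ) * ((y χ : ℚ) - z χ) * (hab χ).1 + 3 * (x χ : ℚ) * a χ * (hab χ).2
      rw [← sub_div, ← sub_div, ← add_div, this]; push_cast; ring
    rw [Finset.sum_congr rfl fun χ _ => e χ, ← Finset.sum_div, Finset.sum_add_distrib,
      Finset.sum_sub_distrib, Finset.sum_sub_distrib, div_mul_eq_mul_div, add_mul, sub_mul, sub_mul,
      t1, t2, t3, t4]
    norm_num
  have ey : (∑ χ : IrrCharacter G, ((a χ * b χ : ℤ) : ℚ) * y χ / (charDegree (χ : G → ℂ) : ℚ))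
      * (Nat.card G : ℚ) = -18 := by
    have t6 : (∑ χ : IrrCharacter G, (x χ : ℚ) * y χ * z χ / (charDegree (χ : G → ℂ) : ℚ))
        * (Nat.card G : ℚ) = ((1 : ℕ) : ℚ) * (18 : ℕ) * (18 : ℕ) := t2
    have e : ∀ χ : IrrCharacter G, ((a χ * b χ : ℤ) : ℚ) * y χ / (charDegree (χ : G → ℂ) : ℚ)
        = ((y χ : ℚ) * y χ * x χ / (charDegree (χ : G → ℂ) : ℚ)
          - (y χ : ℚ) * y χ * z χ / (charDegree (χ : G → ℂ) : ℚ)
          - (x χ : ℚ) * y χ * z χ / (charDegree (χ : G → ℂ) : ℚ)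
          + (y χ : ℚ) * z χ * z χ / (charDegree (χ : G → ℂ) : ℚ)) / 9 := by
      intro χ
      have : (y χ : ℚ) * y χ * x χ - y χ * y χ * z χ - x χ * y χ * z χ + y χ * z χ * z χ
          = 9 * ((a χ : ℚ) * b χ * y χ) := by
        linear_combination (y χ : ℚ) * ((y χ : ℚ) - z χ) * (hab χ).1 + 3 * (y χ : ℚ) * a χ * (hab χ).2
      rw [← sub_div, ← sub_div, ← add_div, this]; push_cast; ring
    rw [Finset.sum_congr rfl fun χ _ => e χ, ← Finset.sum_div, Finset.sum_add_distrib,
      Finset.sum_sub_distrib, Finset.sum_sub_distrib, div_mul_eq_mul_div, add_mul, sub_mul, sub_mul,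
      t5, t6, t7, t8]
    norm_num
  have hpn : ∑ χ, (a χ - b χ) * (a χ - b χ) = 4 := by
    have e : ∑ χ, (a χ - b χ) * (a χ - b χ) = ∑ χ, (a χ * a χ - 2 * (a χ * b χ) + b χ * b χ) :=
      Finset.sum_congr rfl fun χ _ => by ring
    rw [e, Finset.sum_add_distrib, Finset.sum_sub_distrib, ← Finset.mul_sum, saa, sab, sbb]
    norm_num
  have hbound : ∀ χ, (a χ = -1 ∨ a χ = 0 ∨ a χ = 1) ∧ (b χ = -1 ∨ b χ = 0 ∨ b χ = 1) := by
    intro χ
    have h1 := Finset.single_le_sum (f := fun χ => a χ * a χ) (fun i _ => mul_self_nonneg _) (Finset.mem_univ χ)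
    have h2 := Finset.single_le_sum (f := fun χ => b χ * b χ) (fun i _ => mul_self_nonneg _) (Finset.mem_univ χ)
    rw [saa] at h1
    rw [sbb] at h2
    have : -1 ≤ a χ := by nlinarith
    have : a χ ≤ 1 := by nlinarith
    have : -1 ≤ b χ := by nlinarith
    have : b χ ≤ 1 := by nlinarith
    omega
  have h01 : ∀ χ, a χ * b χ = 0 ∨ a χ * b χ = 1 := by
    intro χ
    rcases small_prod (hbound χ).1 (hbound χ).2 with h | h | ⟨hm, hd⟩
    · exact Or.inl h
    · exact Or.inr h
    exfalso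
    have hzero : ∀ ψ, ψ ≠ χ → a ψ - b ψ = 0 := by
      intro ψ hψ
      have h2 := Finset.sum_le_sum_of_subset_of_nonneg (f := fun χ => (a χ - b χ) * (a χ - b χ))
        (Finset.subset_univ {χ, ψ}) fun i _ _ => mul_self_nonneg _
      rw [Finset.sum_pair hψ.symm, hpn, hd] at h2
      nlinarith [mul_self_nonneg (a ψ - b ψ)]
    have hdiff : ∑ ψ : IrrCharacter G, ((a ψ * b ψ : ℤ) : ℚ) * ((x ψ : ℚ) - y ψ)
        / (charDegree (ψ : G → ℂ) : ℚ) = 0 := by
      refine mul_right_cancel₀ hG ?_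
      rw [zero_mul]
      simp only [mul_sub, sub_div, Finset.sum_sub_distrib]
      rw [sub_mul, ex, ey, sub_self]
    rw [Finset.sum_eq_single χ (fun ψ _ hψ => by
      have : x ψ - y ψ = 0 := by linear_combination ha' ψ - hb' ψ + 3 * hzero ψ hψ
      rw [show (x ψ : ℚ) - y ψ = 0 by exact_mod_cast this]; simp) (by simp)] at hdiff
    have hne' : x χ - y χ ≠ 0 := by
      rw [show x χ - y χ = 3 * (a χ - b χ) by linear_combination ha' χ - hb' χ]
      intro h
      rw [show a χ - b χ = 0 by omega] at hd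
      norm_num at hd
    have h1 : ((a χ * b χ : ℤ) : ℚ) ≠ 0 := by rw [hm]; norm_num
    have h2 : (x χ : ℚ) - y χ ≠ 0 := by exact_mod_cast hne'
    exact (div_ne_zero (mul_ne_zero h1 h2) (by exact_mod_cast (Blocks.charDegree_pos χ).ne')) hdiff
  exact C.card_eq_of_le hN (K := 18 ^ 2) (by norm_num)
    (card_le_sq (fun χ => a χ * b χ) x 18 (by norm_num) h01 sab (by exact_mod_cast ex))

set_option maxHeartbeats 1000000 in
theorem lines_normal (C : Coord S (Finset Pl)) (hcls : ∀ p, C.cls p = clsLines p)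
    (hN : Nat.card (Subgroup.normalizer (S : Set G)) = 18) : Subgroup.normalizer (S : Set G) = ⊤ := by
  have hc : C.cls = clsLines := funext hcls
  have hcent : ∀ {p : Pl}, p ≠ 0 → C.cent p = 9 := by
    intro p hp
    have := C.cent_mul_fiber hp
    rw [hN, hc] at this
    rw [(show ∀ p : Pl, p ≠ 0 → (Finset.univ.filter fun q => clsLines q = clsLines p).card = 2 by decide) p hp] at this
    omega
  have O : ∀ p q : Pl, ∑ χ : IrrCharacter G, C.val χ p * C.val χ q
      = if clsLines p = clsLines q then (C.cent q : ℤ) else 0 := fun p q => by rw [C.orth p q, hc]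
  have T : ∀ (p q r : Pl), p ≠ 0 → q ≠ 0 → r ≠ 0 → ¬ (clsLines p = clsLines q ∧ clsLines p = clsLines r) →
      (∑ χ : IrrCharacter G, (C.val χ p : ℚ) * C.val χ q * C.val χ r / (charDegree (χ : G → ℂ) : ℚ))
        * (Nat.card G : ℚ)
      = (((Finset.univ.filter fun a => clsLines a = clsLines p ∧ clsLines (r - a) = clsLines q).card : ℕ) : ℚ)
        * 81 := by
    intro p q r hp hq hr hne
    have := C.triple p q r hr (by rwa [hc])
    rw [cnt, hc, hcent hp, hcent hq] at this
    rw [this]; ring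
  set x := fun χ => C.val χ (1, 0) with hx
  set y := fun χ => C.val χ (0, 1) with hy
  set z := fun χ => C.val χ (1, 1) with hz
  choose a ha using fun χ => C.val_congr χ (1, 0) (0, 1)
  choose b hb using fun χ => C.val_congr χ (1, 0) (1, 1)
  have ha' : ∀ χ, x χ - y χ = 3 * a χ := ha
  have hb' : ∀ χ, x χ - z χ = 3 * b χ := hb
  have oxx : ∑ χ, x χ * x χ = 9 := by rw [O (1, 0) (1, 0), if_pos rfl, hcent (by decide)]; norm_num
  have oyy : ∑ χ, y χ * y χ = 9 := by rw [O (0, 1) (0, 1), if_pos rfl, hcent (by decide)]; norm_num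
  have ozz : ∑ χ, z χ * z χ = 9 := by rw [O (1, 1) (1, 1), if_pos rfl, hcent (by decide)]; norm_num
  have oxy : ∑ χ, x χ * y χ = 0 := by rw [O (1, 0) (0, 1), if_neg (by decide)]
  have oxz : ∑ χ, x χ * z χ = 0 := by rw [O (1, 0) (1, 1), if_neg (by decide)]
  have oyz : ∑ χ, y χ * z χ = 0 := by rw [O (0, 1) (1, 1), if_neg (by decide)]
  have saa : ∑ χ, a χ * a χ = 2 := by
    have e : ∑ χ, 9 * (a χ * a χ) = ∑ χ, (x χ * x χ - 2 * (x χ * y χ) + y χ * y χ) :=
      Finset.sum_congr rfl fun χ _ => by linear_combination (-(x χ - y χ) - 3 * a χ) * ha' χ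
    rw [← Finset.mul_sum, Finset.sum_add_distrib, Finset.sum_sub_distrib, ← Finset.mul_sum, oxx, oxy,
      oyy] at e
    omega
  have sbb : ∑ χ, b χ * b χ = 2 := by
    have e : ∑ χ, 9 * (b χ * b χ) = ∑ χ, (x χ * x χ - 2 * (x χ * z χ) + z χ * z χ) :=
      Finset.sum_congr rfl fun χ _ => by linear_combination (-(x χ - z χ) - 3 * b χ) * hb' χ
    rw [← Finset.mul_sum, Finset.sum_add_distrib, Finset.sum_sub_distrib, ← Finset.mul_sum, oxx, oxz,
      ozz] at e
    omega
  have sab : ∑ χ, a χ * b χ = 1 := by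
    have e : ∑ χ, 9 * (a χ * b χ) = ∑ χ, (x χ * x χ - x χ * z χ - x χ * y χ + y χ * z χ) :=
      Finset.sum_congr rfl fun χ _ => by linear_combination (-(x χ - z χ)) * ha' χ - 3 * a χ * hb' χ
    rw [← Finset.mul_sum, Finset.sum_add_distrib, Finset.sum_sub_distrib, Finset.sum_sub_distrib, oxx,
      oxz, oxy, oyz] at e
    omega
  have t1 := T (1, 0) (1, 0) (0, 1) (by decide) (by decide) (by decide) (by decide)
  have t2 := T (1, 0) (0, 1) (1, 1) (by decide) (by decide) (by decide) (by decide)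
  have t3 := T (1, 0) (0, 1) (0, 1) (by decide) (by decide) (by decide) (by decide)
  have t4 := T (0, 1) (0, 1) (1, 1) (by decide) (by decide) (by decide) (by decide)
  rw [show (Finset.univ.filter fun a => clsLines a = clsLines ((1, 0) : Pl) ∧
    clsLines ((0, 1) - a) = clsLines (1, 0)).card = 0 by decide] at t1
  rw [show (Finset.univ.filter fun a => clsLines a = clsLines ((1, 0) : Pl) ∧
    clsLines ((1, 1) - a) = clsLines (0, 1)).card = 1 by decide] at t2
  rw [show (Finset.univ.filter fun a => clsLines a = clsLines ((1, 0) : Pl) ∧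
    clsLines ((0, 1) - a) = clsLines (0, 1)).card = 0 by decide] at t3
  rw [show (Finset.univ.filter fun a => clsLines a = clsLines ((0, 1) : Pl) ∧
    clsLines ((1, 1) - a) = clsLines (0, 1)).card = 0 by decide] at t4
  have ey : (∑ χ : IrrCharacter G, ((a χ * b χ : ℤ) : ℚ) * y χ / (charDegree (χ : G → ℂ) : ℚ))
      * (Nat.card G : ℚ) = -9 := by
    have e : ∀ χ : IrrCharacter G, ((a χ * b χ : ℤ) : ℚ) * y χ / (charDegree (χ : G → ℂ) : ℚ)
        = ((x χ : ℚ) * x χ * y χ / (charDegree (χ : G → ℂ) : ℚ)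
          - (x χ : ℚ) * y χ * z χ / (charDegree (χ : G → ℂ) : ℚ)
          - (x χ : ℚ) * y χ * y χ / (charDegree (χ : G → ℂ) : ℚ)
          + (y χ : ℚ) * y χ * z χ / (charDegree (χ : G → ℂ) : ℚ)) / 9 := by
      intro χ
      have h1 : (x χ : ℚ) - y χ = 3 * a χ := by exact_mod_cast ha' χ
      have h2 : (x χ : ℚ) - z χ = 3 * b χ := by exact_mod_cast hb' χ
      have : (x χ : ℚ) * x χ * y χ - x χ * y χ * z χ - x χ * y χ * y χ + y χ * y χ * z χ
          = 9 * ((a χ : ℚ) * b χ * y χ) := by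
        linear_combination (y χ : ℚ) * ((x χ : ℚ) - z χ) * h1 + 3 * (y χ : ℚ) * a χ * h2
      rw [← sub_div, ← sub_div, ← add_div, this]; push_cast; ring
    rw [Finset.sum_congr rfl fun χ _ => e χ, ← Finset.sum_div, Finset.sum_add_distrib,
      Finset.sum_sub_distrib, Finset.sum_sub_distrib, div_mul_eq_mul_div, add_mul, sub_mul, sub_mul,
      t1, t2, t3, t4]
    norm_num
  have hpn : ∑ χ, (a χ - b χ) * (a χ - b χ) = 2 := by
    have e : ∑ χ, (a χ - b χ) * (a χ - b χ) = ∑ χ, (a χ * a χ - 2 * (a χ * b χ) + b χ * b χ) :=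
      Finset.sum_congr rfl fun χ _ => by ring
    rw [e, Finset.sum_add_distrib, Finset.sum_sub_distrib, ← Finset.mul_sum, saa, sab, sbb]
    norm_num
  have h01 : ∀ χ, a χ * b χ = 0 ∨ a χ * b χ = 1 := by
    intro χ
    have h1 := Finset.single_le_sum (f := fun χ => a χ * a χ) (fun i _ => mul_self_nonneg _) (Finset.mem_univ χ)
    have h2 := Finset.single_le_sum (f := fun χ => b χ * b χ) (fun i _ => mul_self_nonneg _) (Finset.mem_univ χ)
    have h3 := Finset.single_le_sum (f := fun χ => (a χ - b χ) * (a χ - b χ)) (fun i _ => mul_self_nonneg _)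
      (Finset.mem_univ χ)
    rw [saa] at h1
    rw [sbb] at h2
    rw [hpn] at h3
    have g1 : -1 ≤ a χ := by nlinarith
    have g2 : a χ ≤ 1 := by nlinarith
    have g3 : -1 ≤ b χ := by nlinarith
    have g4 : b χ ≤ 1 := by nlinarith
    rcases small_prod (show a χ = -1 ∨ a χ = 0 ∨ a χ = 1 by omega)
      (show b χ = -1 ∨ b χ = 0 ∨ b χ = 1 by omega) with h | h | ⟨-, hd⟩
    · exact Or.inl h
    · exact Or.inr h
    · omega
  exact C.card_eq_of_le hN (K := 9 ^ 2) (by norm_num)
    (card_le_sq (fun χ => a χ * b χ) y 9 (by norm_num) h01 sab (by exact_mod_cast ey))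

end Coord

end CfsgLib.Char.SylowNine
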