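import Cfsg.Agent.Lib.Char.SylowNine.Frame
import Cfsg.Agent.Lib.SmallGroups.BlockDegrees

/-!
# The fusion pattern of a cyclic group of order four

The two classes give two exceptional characters of equal degree; the structure constant equation then
leaves only the order 360.
-/

set_option autoImplicit false

open scoped Classical

namespace CfsgLib.Char.SylowNine.Coord

open Cfsg CfsgLib CfsgLib.Char.SylowNine

variable {G : Type*} [Group G] [Fintype G] {S : Subgroup G}

/-- The pattern of a cyclic group of order four. -/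
def clsWeight (p : Pl) : ℕ := (if p.1 = 0 then 0 else 1) + (if p.2 = 0 then 0 else 1)

set_option maxHeartbeats 1000000 in
theorem cyclic_card [IsSimpleGroup G] (hna : ¬ IsMulCommutative G) (C : Coord S ℕ)
    (hcls : ∀ p, C.cls p = clsWeight p) (hN : Nat.card (Subgroup.normalizer (S : Set G)) = 36)
    (hnn : Subgroup.normalizer (S : Set G) ≠ ⊤) : Nat.card G = 360 := by
  have hc : C.cls = clsWeight := funext hcls
  have hcent : ∀ {p : Pl}, p ≠ 0 → C.cent p = 9 := by
    intro p hp
    have := C.cent_mul_fiber hp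
    rw [hN, hc] at this
    rw [(show ∀ p : Pl, p ≠ 0 → (Finset.univ.filter fun q => clsWeight q = clsWeight p).card = 4 by decide)
      p hp] at this
    omega
  set x := fun χ => C.val χ (1, 0) with hx
  set y := fun χ => C.val χ (1, 1) with hy
  have hd9 : ∀ χ : IrrCharacter G, (9 : ℤ) ∣ (charDegree (χ : G → ℂ) : ℤ) + 4 * x χ + 4 * y χ := by
    intro χ
    have h := C.val_sum χ
    have hv : ∀ p : Pl, C.val χ p = if clsWeight p = 0 then (charDegree (χ : G → ℂ) : ℤ)
        else if clsWeight p = 1 then x χ else y χ := by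
      intro p
      have h3 : clsWeight p = 0 ∨ clsWeight p = 1 ∨ clsWeight p = 2 := by revert p; decide
      rcases h3 with h3 | h3 | h3 <;> simp only [h3, if_true, if_false, OfNat.ofNat_ne_zero, one_ne_zero,
        OfNat.ofNat_ne_one]
      · rw [C.val_cls χ (p := p) (q := 0) (by rw [hc, h3]; rfl), C.val_zero]
      · exact C.val_cls χ (by rw [hc, h3]; rfl)
      · exact C.val_cls χ (by rw [hc, h3]; rfl)
    rw [Finset.sum_congr rfl fun p _ => hv p, Finset.sum_ite, Finset.sum_ite, Finset.sum_const,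
      Finset.sum_const, Finset.sum_const, nsmul_eq_mul, nsmul_eq_mul, nsmul_eq_mul] at h
    rw [show (Finset.univ.filter fun p : Pl => clsWeight p = 0).card = 1 by decide,
      show ((Finset.univ.filter fun p : Pl => ¬ clsWeight p = 0).filter fun p => clsWeight p = 1).card = 4
        by decide,
      show ((Finset.univ.filter fun p : Pl => ¬ clsWeight p = 0).filter fun p => ¬ clsWeight p = 1).card = 4
        by decide] at h
    push_cast at h
    rw [one_mul, ← add_assoc] at h
    exact h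
  choose a ha using fun χ => C.val_congr χ (1, 0) (1, 1)
  have ha' : ∀ χ, x χ - y χ = 3 * a χ := ha
  have oxx : ∑ χ, x χ * x χ = 9 := by
    rw [C.orth (1, 0) (1, 0), if_pos rfl, hcent (by decide)]; norm_num
  have oyy : ∑ χ, y χ * y χ = 9 := by
    rw [C.orth (1, 1) (1, 1), if_pos rfl, hcent (by decide)]; norm_num
  have oxy : ∑ χ, x χ * y χ = 0 := by rw [C.orth (1, 0) (1, 1), hc, if_neg (by decide)]
  have ox1 : ∑ χ : IrrCharacter G, (charDegree (χ : G → ℂ) : ℤ) * x χ = 0 := C.orth_deg (by decide)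
  have oy1 : ∑ χ : IrrCharacter G, (charDegree (χ : G → ℂ) : ℤ) * y χ = 0 := C.orth_deg (by decide)
  have T : (∑ χ : IrrCharacter G, (x χ : ℚ) * x χ * y χ / (charDegree (χ : G → ℂ) : ℚ))
      * (Nat.card G : ℚ) = 162 := by
    have t := C.triple (1, 0) (1, 0) (1, 1) (by decide) (by rw [hc]; decide)
    rw [cnt, hc, hcent (by decide), show (Finset.univ.filter fun b => clsWeight b = clsWeight ((1, 0) : Pl) ∧
      clsWeight ((1, 1) - b) = clsWeight (1, 0)).card = 2 by decide] at t
    rw [t]; norm_num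
  obtain ⟨k, hk, hk9⟩ := C.index_mod
  rw [hN] at hk
  have hk10 : 10 ≤ k := by
    by_contra hlt
    have : k = 1 := by omega
    subst this
    exact hnn (Subgroup.eq_top_of_card_eq _ (by rw [hN, hk, mul_one]))
  clear_value x y
  -- the two exceptional characters
  have saa : ∑ χ, a χ * a χ = 2 := by
    have e : ∑ χ, 9 * (a χ * a χ) = ∑ χ, (x χ * x χ - 2 * (x χ * y χ) + y χ * y χ) :=
      Finset.sum_congr rfl fun χ _ => by linear_combination (-(x χ - y χ) - 3 * a χ) * ha' χ
    rw [← Finset.mul_sum, Finset.sum_add_distrib, Finset.sum_sub_distrib, ← Finset.mul_sum, oxx, oxy,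
      oyy] at e
    omega
  set X := Finset.univ.filter fun χ => a χ ≠ 0 with hX
  have habs : ∀ χ, a χ ≠ 0 → a χ = 1 ∨ a χ = -1 := by
    intro χ hχ
    have h1 := Finset.single_le_sum (f := fun χ => a χ * a χ) (fun i _ => mul_self_nonneg _) (Finset.mem_univ χ)
    rw [saa] at h1
    have : -1 ≤ a χ := by nlinarith
    have : a χ ≤ 1 := by nlinarith
    omega
  have hXcard : X.card = 2 := by
    have : (∑ χ ∈ X, a χ * a χ) = 2 := by
      rw [← saa]
      exact Finset.sum_subset (Finset.subset_univ _) fun i _ hi => by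
        simp only [X, Finset.mem_filter, Finset.mem_univ, true_and, ne_eq, not_not] at hi
        simp [hi]
    rw [Finset.sum_congr rfl fun χ hχ => show a χ * a χ = 1 by
      rcases habs χ (Finset.mem_filter.1 hχ).2 with h | h <;> rw [h] <;> norm_num,
      Finset.sum_const, nsmul_eq_mul, mul_one] at this
    exact_mod_cast this
  obtain ⟨χ₁, χ₂, hne, hX2⟩ := Finset.card_eq_two.1 hXcard
  have hsplit : ∀ f : IrrCharacter G → ℤ, ∑ χ, f χ = f χ₁ + f χ₂ + ∑ χ ∈ Xᶜ, f χ := by
    intro f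
    rw [← Finset.sum_add_sum_compl X, hX2, Finset.sum_pair hne]
  have hrest : ∀ χ ∈ Xᶜ, x χ = y χ := by
    intro χ hχ
    simp only [X, Finset.mem_compl, Finset.mem_filter, Finset.mem_univ, true_and, ne_eq, not_not] at hχ
    have := ha' χ
    rw [hχ] at this
    omega
  have hm₁ : a χ₁ ≠ 0 := (Finset.mem_filter.1 (show χ₁ ∈ X by rw [hX2]; simp)).2
  have hm₂ : a χ₂ ≠ 0 := (Finset.mem_filter.1 (show χ₂ ∈ X by rw [hX2]; simp)).2
  have hdeg : (charDegree (χ₁ : G → ℂ) : ℤ) * a χ₁ + (charDegree (χ₂ : G → ℂ) : ℤ) * a χ₂ = 0 := by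
    have e : ∑ χ : IrrCharacter G, (charDegree (χ : G → ℂ) : ℤ) * (3 * a χ) = 0 := by
      rw [Finset.sum_congr rfl fun (χ : IrrCharacter G) _ => show (charDegree (χ : G → ℂ) : ℤ) * (3 * a χ)
          = (charDegree (χ : G → ℂ) : ℤ) * x χ - (charDegree (χ : G → ℂ) : ℤ) * y χ by rw [← ha' χ]; ring,
        Finset.sum_sub_distrib, ox1, oy1, sub_zero]
    rw [hsplit, Finset.sum_eq_zero (s := Xᶜ) fun χ hχ => by
      simp only [X, Finset.mem_compl, Finset.mem_filter, Finset.mem_univ, true_and, ne_eq, not_not] at hχ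
      simp [hχ]] at e
    linarith
  -- normalise so that the first has a positive difference
  obtain ⟨χ₁, χ₂, hne, hX2, ha1, ha2, hdd⟩ : ∃ φ₁ φ₂ : IrrCharacter G, φ₁ ≠ φ₂ ∧ X = {φ₁, φ₂} ∧ a φ₁ = 1
      ∧ a φ₂ = -1 ∧ charDegree (φ₁ : G → ℂ) = charDegree (φ₂ : G → ℂ) := by
    have p1 := Blocks.charDegree_pos χ₁
    have p2 := Blocks.charDegree_pos χ₂
    rcases habs _ hm₁ with h1 | h1 <;> rcases habs _ hm₂ with h2 | h2 <;> rw [h1, h2] at hdeg
    · omega
    · exact ⟨χ₁, χ₂, hne, hX2, h1, h2, by omega⟩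
    · exact ⟨χ₂, χ₁, hne.symm, hX2.trans (Finset.pair_comm _ _), h2, h1, by omega⟩
    · omega
  clear hm₁ hm₂ hsplit
  have hsplit : ∀ f : IrrCharacter G → ℤ, ∑ χ, f χ = f χ₁ + f χ₂ + ∑ χ ∈ Xᶜ, f χ := by
    intro f
    rw [← Finset.sum_add_sum_compl X, hX2, Finset.sum_pair hne]
  set C0 := ∑ χ ∈ Xᶜ, y χ * y χ with hC0
  have hx1 : x χ₁ = y χ₁ + 3 := by have := ha' χ₁; rw [ha1] at this; omega
  have hx2 : x χ₂ = y χ₂ - 3 := by have := ha' χ₂; rw [ha2] at this; omega
  have e1 : y χ₁ * y χ₁ + y χ₂ * y χ₂ + C0 = 9 := by rw [← oyy, hsplit]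
  have e2 : (y χ₁ + 3) * y χ₁ + (y χ₂ - 3) * y χ₂ + C0 = 0 := by
    rw [← oxy, hsplit, hx1, hx2, hC0]
    refine congrArg (fun t => (y χ₁ + 3) * y χ₁ + (y χ₂ - 3) * y χ₂ + t) ?_
    exact Finset.sum_congr rfl fun χ hχ => by rw [hrest χ hχ]
  have hw : y χ₂ = y χ₁ + 3 := by linarith
  set z := y χ₁ with hz
  have htriv : Blocks.trivChar G ∈ Xᶜ := by
    simp only [X, Finset.mem_compl, Finset.mem_filter, Finset.mem_univ, true_and, ne_eq, not_not]
    have := ha' (Blocks.trivChar G)
    rw [hx, hy] at *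
    simp only [C.val_triv] at this
    omega
  have hyt : y (Blocks.trivChar G) = 1 := by rw [hy]; exact C.val_triv _
  have hC1 : 1 ≤ C0 := by
    have := Finset.single_le_sum (f := fun χ => y χ * y χ) (fun i _ => mul_self_nonneg _) htriv
    rw [hyt] at this
    exact this
  have hC4 : C0 = 9 - z * z - (z + 3) * (z + 3) := by rw [hw] at e1; linarith
  have hz12 : z = -1 ∨ z = -2 := by
    have : -2 ≤ z := by nlinarith
    have : z ≤ -1 := by nlinarith
    omega
  have hC3 : C0 = 4 := by rcases hz12 with h | h <;> rw [hC4, h] <;> norm_num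
  set R := Xᶜ.erase (Blocks.trivChar G) with hR
  have hR3 : ∑ χ ∈ R, y χ * y χ = 3 := by
    have := Finset.add_sum_erase _ (fun χ => y χ * y χ) htriv
    rw [hyt, ← hC0, hC3] at this
    linarith
  have hterm : ∀ χ ∈ R, -(1 / 8 : ℚ) * ((y χ * y χ : ℤ) : ℚ)
      ≤ (x χ : ℚ) * x χ * y χ / (charDegree (χ : G → ℂ) : ℚ) := by
    intro χ hχ
    obtain ⟨hχt, hχX⟩ := Finset.mem_erase.1 hχ
    have hxy := hrest χ hχX
    have h1 := Finset.single_le_sum (f := fun χ => y χ * y χ) (fun i _ => mul_self_nonneg _) hχ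
    rw [hR3] at h1
    have : -1 ≤ y χ := by nlinarith
    have : y χ ≤ 1 := by nlinarith
    have hf := hd9 χ
    rw [hxy] at hf
    have hf1 : charDegree (χ : G → ℂ) ≠ 1 := fun h => hχt (SmallGroups.BlockDegrees.eq_trivChar hna χ h)
    have hfp := Blocks.charDegree_pos χ
    rcases (show y χ = -1 ∨ y χ = 0 ∨ y χ = 1 by omega) with h | h | h <;> rw [hxy, h] <;> norm_num
    · rw [h] at hf
      have h8 : 8 ≤ charDegree (χ : G → ℂ) := by omega
      have h8' : (8 : ℚ) ≤ (charDegree (χ : G → ℂ) : ℚ) := by exact_mod_cast h8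
      rw [neg_div]
      exact neg_le_neg (one_div_le_one_div_of_le (by norm_num) h8')
    · have : (0 : ℚ) ≤ 1 / (charDegree (χ : G → ℂ) : ℚ) := by positivity
      rw [one_div] at this
      linarith
  have hsum : (5 / 8 : ℚ) + ((z * (z + 3) * (2 * z + 3) : ℤ) : ℚ) / (charDegree (χ₁ : G → ℂ) : ℚ)
      ≤ ∑ χ : IrrCharacter G, (x χ : ℚ) * x χ * y χ / (charDegree (χ : G → ℂ) : ℚ) := by
    rw [← Finset.sum_add_sum_compl X, ← Finset.add_sum_erase Xᶜ _ htriv, ← hR, hX2,
      Finset.sum_pair hne, hx1, hx2, hw, ← hdd]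
    have h1 := Finset.sum_le_sum hterm
    rw [← Finset.mul_sum, ← Int.cast_sum, hR3] at h1
    have hxt : x (Blocks.trivChar G) = 1 := by rw [hx]; exact C.val_triv _
    have hdt : charDegree ((Blocks.trivChar G : IrrCharacter G) : G → ℂ) = 1 := by simp [charDegree]
    rw [hxt, hyt, hdt]
    push_cast at h1 ⊢
    rw [← add_div, show ((z : ℚ) + 3) * ((z : ℚ) + 3) * z + (z + 3 - 3) * (z + 3 - 3) * (z + 3)
      = z * (z + 3) * (2 * z + 3) by ring]
    linarith
  have hGpos : (360 : ℚ) ≤ (Nat.card G : ℚ) := by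
    have : 360 ≤ Nat.card G := by omega
    exact_mod_cast this
  have hle := mul_le_mul_of_nonneg_right hsum (show (0 : ℚ) ≤ (Nat.card G : ℚ) by positivity)
  rw [T] at hle
  have hd := hd9 χ₁
  rw [hx1, ← hz] at hd
  have hdp := Blocks.charDegree_pos χ₁
  set d := charDegree (χ₁ : G → ℂ) with hddef
  rcases hz12 with h | h <;> rw [h] at hle hd <;> norm_num [-Nat.card_eq_fintype_card] at hle hd
  · have hd5 : d = 5 := by
      by_contra hne5
      have h14 : 14 ≤ d := by omega
      have h14' : (14 : ℚ) ≤ (d : ℚ) := by exact_mod_cast h14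
      have : (2 : ℚ) / (d : ℚ) ≤ 1 / 7 := by
        rw [div_le_div_iff₀ (by linarith) (by norm_num)]; linarith
      have : (162 : ℚ) ≥ (5 / 8 - 1 / 7) * (Nat.card G : ℚ) := by
        refine le_trans (mul_le_mul_of_nonneg_right ?_ (by positivity)) hle
        rw [neg_div]; linarith
      linarith
    have hdvd : 5 ∣ Nat.card G := hd5 ▸ Blocks.charDegree_dvd χ₁
    rw [hd5] at hle
    norm_num [-Nat.card_eq_fintype_card] at hle
    have : (Nat.card G : ℚ) ≤ 720 := by linarith
    have : Nat.card G ≤ 720 := by exact_mod_cast this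
    omega
  · have : (0 : ℚ) ≤ 2 / (d : ℚ) := by positivity
    have : (162 : ℚ) ≥ (5 / 8) * (Nat.card G : ℚ) := by
      refine le_trans (mul_le_mul_of_nonneg_right ?_ (by positivity)) hle
      linarith
    linarith

end CfsgLib.Char.SylowNine.Coord
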