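import Cfsg.Agent.Lib.Char.SylowNine.Setup
import Cfsg.Agent.Lib.Coprime.Generation
import Cfsg.Agent.Lib.SmallGroups.SimpleTools
import Cfsg.Agent.Lib.Solvable.Basic
import Cfsg.Agent.S3716

/-!
# The normal subgroup lattice of a group with dihedral automizer on an elementary group of order nine
-/

set_option autoImplicit false

open scoped Classical

namespace CfsgLib.Char.SylowNine

variable {G : Type*} [Group G] [Fintype G] {S : Subgroup G}

/-- The linear map with the given images of the basis. -/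
def lin (u v : Pl) (p : Pl) : Pl := p.1.val • u + p.2.val • v

theorem span_turn : ∀ p : Pl, p ≠ 0 → ∀ q : Pl, ∃ i j : Fin 3, q = (i : ℕ) • p + (j : ℕ) • turn p := by
  decide +kernel

theorem lin_comm_turn : ∀ u v : Pl, (∀ p, lin u v (lin u v p) = p) →
    (∀ p, lin u v (turn p) = turn (lin u v p)) → (∀ p, lin u v p = p) ∨ ∀ p, lin u v p = -p := by
  decide +kernel

theorem dihedral_four : ∀ d : DihedralGroup 4, d * d * (d * d) = 1 := by decide

theorem coords_nsmul (h : Hyp S) {a b : G} (ha : a ∈ S) (hb : b ∈ S) (n : ℕ) (p : Pl) :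
    coords a b (n • p) = coords a b p ^ n := by
  induction n with
  | zero => simp [coords]
  | succ n ih => rw [succ_nsmul, coords_add h ha hb, ih, pow_succ]

theorem exists_coords (h : Hyp S) {a b : G} (ha : a ∈ S) (hb : b ∈ S) (ha1 : a ≠ 1)
    (hab : b ∉ Subgroup.zpowers a) {s : G} (hs : s ∈ S) : ∃ p, coords a b p = s := by
  have hbij : Function.Bijective (fun p => (⟨coords a b p, coords_mem a b ha hb p⟩ : S)) :=
    (Fintype.bijective_iff_injective_and_card _).2
      ⟨fun p q e => coords_inj h ha hb ha1 hab (congrArg Subtype.val e), by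
        rw [← Nat.card_eq_fintype_card (α := S), h.card9, Fintype.card_prod, ZMod.card]⟩
  obtain ⟨p, hp⟩ := hbij.2 ⟨s, hs⟩
  exact ⟨p, congrArg Subtype.val hp⟩

/-- Every element of the normaliser acts linearly. -/
theorem exists_lin (h : Hyp S) {a b x : G} (ha : a ∈ S) (hb : b ∈ S) (ha1 : a ≠ 1)
    (hab : b ∉ Subgroup.zpowers a) (hx : x ∈ Subgroup.normalizer (S : Set G)) :
    ∃ u v, Acts a b x (lin u v) ∧ coords a b u = x * a * x⁻¹ ∧ coords a b v = x * b * x⁻¹ := by
  obtain ⟨u, hu⟩ := exists_coords h ha hb ha1 hab (h.conj_mem hx ha)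
  obtain ⟨v, hv⟩ := exists_coords h ha hb ha1 hab (h.conj_mem hx hb)
  exact ⟨u, v, acts_of_gen h ha hb hu.symm hv.symm fun p => by
    rw [lin, coords_add h ha hb, coords_nsmul h ha hb, coords_nsmul h ha hb], hu, hv⟩

/-- An element acting trivially lies in `S`. -/
theorem mem_of_acts_id (h : Hyp S) (hC : Subgroup.centralizer (S : Set G) ≤ S) {a b x : G} (ha : a ∈ S)
    (hb : b ∈ S) (ha1 : a ≠ 1) (hab : b ∉ Subgroup.zpowers a) {m : Pl → Pl} (hm : Acts a b x m)
    (hid : ∀ p, m p = p) : x ∈ S := by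
  refine hC (Subgroup.mem_centralizer_iff.2 fun s hs => ?_)
  obtain ⟨p, rfl⟩ := exists_coords h ha hb ha1 hab hs
  have := hm p
  rw [hid, mul_inv_eq_iff_eq_mul] at this
  exact this.symm

theorem iterate_eq_id (h : Hyp S) {a b x : G} (ha : a ∈ S) (hb : b ∈ S) (ha1 : a ≠ 1)
    (hab : b ∉ Subgroup.zpowers a) {m : Pl → Pl} (hm : Acts a b x m) (hx : x ∈ S) : ∀ p, m p = p := fun p =>
  coords_inj h ha hb ha1 hab (by rw [← hm p, (h.comm hx (coords_mem a b ha hb p)).eq, mul_inv_cancel_right])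

theorem exists_basis (h : Hyp S) : ∃ a b, a ∈ S ∧ b ∈ S ∧ a ≠ 1 ∧ b ∉ Subgroup.zpowers a := by
  obtain ⟨a, ha, ha1⟩ := h.exists_ne_one
  refine ⟨a, ?_⟩
  by_contra hno
  push Not at hno
  have h1 : Nat.card S ≤ Nat.card (Subgroup.zpowers a) :=
    Subgroup.card_le_of_le fun b hb => hno b ha hb ha1
  rw [h.card9, Nat.card_zpowers] at h1
  have h2 := Nat.le_of_dvd (by norm_num) (orderOf_dvd_of_pow_eq_one (h.exp3 a ha))
  omega

/-- An element of order four on `S` squares to the inversion. -/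
theorem square_inverts (h : Hyp S) (hC : Subgroup.centralizer (S : Set G) ≤ S) {x : G}
    (hx : x ∈ Subgroup.normalizer (S : Set G)) (h2 : x * x ∉ S) (h4 : x * x * (x * x) ∈ S) :
    ∀ s ∈ S, (x * x) * s * (x * x)⁻¹ = s⁻¹ := by
  obtain ⟨a, b, ha, hb, ha1, hab⟩ := exists_basis h
  obtain ⟨u, v, hm, -, -⟩ := exists_lin h ha hb ha1 hab hx
  have e4 : ∀ p, lin u v (lin u v (lin u v (lin u v p))) = p :=
    iterate_eq_id h ha hb ha1 hab ((hm.mul hm).mul (hm.mul hm)) h4
  rcases (show ∀ u v : Pl, (∀ p, lin u v (lin u v (lin u v (lin u v p))) = p) →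
      (∀ p, lin u v (lin u v p) = p) ∨ ∀ p, lin u v (lin u v p) = -p by decide +kernel) u v e4 with he | he
  · exact absurd (mem_of_acts_id h hC ha hb ha1 hab (hm.mul hm) he) h2
  · intro s hs
    obtain ⟨p, rfl⟩ := exists_coords h ha hb ha1 hab hs
    refine (hm.mul hm p).trans (eq_inv_of_mul_eq_one_left ?_)
    rw [← coords_add h ha hb, Function.comp_apply, he, neg_add_cancel]
    simp [coords]

/-- A basis on which the element acts as a quarter turn. -/
theorem exists_turn_basis (h : Hyp S) {x : G} (hx : x ∈ Subgroup.normalizer (S : Set G))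
    (hinv : ∀ s ∈ S, (x * x) * s * (x * x)⁻¹ = s⁻¹) :
    ∃ a b, a ∈ S ∧ b ∈ S ∧ a ≠ 1 ∧ b ∉ Subgroup.zpowers a ∧ Acts a b x turn := by
  obtain ⟨a, ha, ha1⟩ := h.exists_ne_one
  set b := x * a * x⁻¹ with hb0
  have hb : b ∈ S := h.conj_mem hx ha
  have hxb : x * b * x⁻¹ = a⁻¹ := by
    rw [hb0, show x * (x * a * x⁻¹) * x⁻¹ = (x * x) * a * (x * x)⁻¹ by group]; exact hinv a ha
  have hab : b ∉ Subgroup.zpowers a := by
    rintro ⟨i, hi⟩
    refine ha1 ?_
    have h1 : x * a ^ i * x⁻¹ = a⁻¹ := by rw [show a ^ i = b from hi]; exact hxb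
    rw [← conj_zpow, ← hb0, ← hi, ← zpow_mul] at h1
    have h2 : a ^ (i * i + 1) = 1 := by rw [zpow_add_one, h1, inv_mul_cancel]
    have ho : orderOf a = 3 :=
      (Nat.prime_three.eq_one_or_self_of_dvd _ (orderOf_dvd_of_pow_eq_one (h.exp3 a ha))).resolve_left
        fun e => ha1 (orderOf_eq_one_iff.1 e)
    have h3 := orderOf_dvd_iff_zpow_eq_one.2 h2
    rw [ho] at h3
    exfalso
    have : (i * i + 1) % 3 ≠ 0 := by
      rcases (show i % 3 = 0 ∨ i % 3 = 1 ∨ i % 3 = 2 by omega) with hi3 | hi3 | hi3 <;>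
        rw [Int.add_emod, Int.mul_emod, hi3] <;> norm_num
    omega
  exact ⟨a, b, ha, hb, ha1, hab, acts_of_gen h ha hb hb0.symm hxb fun p => by
    rw [coords, turn, pow_neg_val (h.exp3 a ha)]
    exact (h.comm (pow_mem (inv_mem ha) _) (pow_mem hb _)).eq.symm⟩

/-- The hypothesis on the normaliser: a dihedral group of order eight. -/
structure Dih (S : Subgroup G) (φ : ↥(Subgroup.normalizer (S : Set G)) →* DihedralGroup 4) : Prop where
  hyp : Hyp S
  cent : Subgroup.centralizer (S : Set G) ≤ S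
  surj : Function.Surjective φ
  ker : ∀ x, φ x = 1 ↔ (x : G) ∈ S

variable {φ : ↥(Subgroup.normalizer (S : Set G)) →* DihedralGroup 4}

theorem Dih.exists_quarter (D : Dih S φ) :
    ∃ r : ↥(Subgroup.normalizer (S : Set G)), φ r = DihedralGroup.r 1 ∧ (r : G) * r ∉ S
      ∧ (r : G) * r * (r * r) ∈ S ∧ ∀ s ∈ S, ((r : G) * r) * s * ((r : G) * r)⁻¹ = s⁻¹ := by
  obtain ⟨r, hr⟩ := D.surj (DihedralGroup.r 1)
  have h2 : (r : G) * r ∉ S := fun hm => by
    have := (D.ker (r * r)).2 hm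
    rw [map_mul, hr] at this
    revert this; decide
  have h4 : (r : G) * r * (r * r) ∈ S := by
    refine (D.ker (r * r * (r * r))).1 ?_
    rw [map_mul, map_mul, hr]; decide
  exact ⟨r, hr, h2, h4, square_inverts D.hyp D.cent r.2 h2 h4⟩

theorem Dih.card_normalizer (D : Dih S φ) : Nat.card ↥(Subgroup.normalizer (S : Set G)) = 72 := by
  have hk : φ.ker = S.subgroupOf (Subgroup.normalizer (S : Set G)) :=
    Subgroup.ext fun x => by rw [MonoidHom.mem_ker, Subgroup.mem_subgroupOf]; exact D.ker x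
  rw [Subgroup.card_eq_card_quotient_mul_card_subgroup φ.ker,
    Nat.card_congr (QuotientGroup.quotientKerEquivOfSurjective φ D.surj).toEquiv,
    DihedralGroup.nat_card, hk, Nat.card_congr (Subgroup.subgroupOfEquivOfLe Subgroup.le_normalizer).toEquiv,
    D.hyp.card9]

theorem eq_bot_of_coprime (h : Hyp S) (hC : Subgroup.centralizer (S : Set G) ≤ S) {K : Subgroup G}
    (hSK : S ≤ Subgroup.normalizer (K : Set G)) (h3 : ¬ 3 ∣ Nat.card K) : K = ⊥ := by
  haveI : IsMulCommutative S := ⟨⟨fun x y => Subtype.ext (h.comm x.2 y.2).eq⟩⟩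
  have hnc : ¬ IsCyclic S := fun hc => by
    obtain ⟨g, hg⟩ := hc.exists_generator
    have h1 : Nat.card S = orderOf g := (orderOf_eq_card_of_forall_mem_zpowers hg).symm
    have h2 : orderOf g ∣ 3 := orderOf_dvd_of_pow_eq_one (Subtype.ext (h.exp3 _ g.2))
    rw [← h1, h.card9] at h2
    norm_num at h2
  have hcop : (Nat.card S).Coprime (Nat.card K) := by
    rw [h.card9, show (9 : ℕ) = 3 ^ 2 by norm_num]
    exact Nat.Coprime.pow_left 2 ((Nat.prime_three.coprime_iff_not_dvd).2 h3)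
  have hdisj : ∀ x, x ∈ K → x ∈ S → x = 1 := fun x hxK hxS => by
    by_contra hx1
    have ho : orderOf x = 3 :=
      (Nat.prime_three.eq_one_or_self_of_dvd _ (orderOf_dvd_of_pow_eq_one (h.exp3 x hxS))).resolve_left
        fun e => hx1 (orderOf_eq_one_iff.1 e)
    exact h3 (ho ▸ Subgroup.orderOf_dvd_natCard K hxK)
  rw [← CfsgLib.Coprime.iSup_centralizer_singleton hnc hSK hcop]
  refine le_bot_iff.1 (iSup₂_le fun a ha y hy => ?_)
  obtain ⟨hyK, hyc⟩ := Subgroup.mem_inf.1 hy
  have hyN := h.loc a ha.1 ha.2 hyc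
  refine Subgroup.mem_bot.2 (hdisj y hyK (hC (Subgroup.mem_centralizer_iff.2 fun s hs => ?_)))
  have hK' : s * y * s⁻¹ * y⁻¹ = 1 := hdisj _
    (mul_mem ((Subgroup.mem_normalizer_iff.1 (hSK hs) y).1 hyK) (inv_mem hyK))
    (by rw [show s * y * s⁻¹ * y⁻¹ = s * (y * s⁻¹ * y⁻¹) by group]
        exact mul_mem hs (h.conj_mem hyN (inv_mem hs)))
  rw [mul_inv_eq_one, mul_inv_eq_iff_eq_mul] at hK'
  exact hK'

/-- A normal subgroup of order divisible by three contains `S`. -/
theorem Dih.le_of_normal (D : Dih S φ) {M : Subgroup G} [M.Normal] (h3 : 3 ∣ Nat.card M) : S ≤ M := by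
  have h := D.hyp
  haveI : Fact (Nat.Prime 3) := ⟨Nat.prime_three⟩
  obtain ⟨⟨c, hcM⟩, hc⟩ := exists_prime_orderOf_dvd_card' (G := M) 3 h3
  rw [← Subgroup.orderOf_coe] at hc
  change orderOf c = 3 at hc
  obtain ⟨g, hg⟩ := h.exists_conj_mem (H := Subgroup.zpowers c)
    (IsPGroup.of_card (n := 1) (by rw [Nat.card_zpowers, hc, pow_one]))
  set a := g * c * g⁻¹
  have haS : a ∈ S := hg c (Subgroup.mem_zpowers c)
  have haM : a ∈ M := (inferInstance : M.Normal).conj_mem c hcM g
  have ha1 : a ≠ 1 := fun e => by rw [conj_eq_one_iff.1 e, orderOf_one] at hc; omega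
  obtain ⟨r, -, -, -, hinv⟩ := D.exists_quarter
  obtain ⟨a', b', ha', hb', ha1', hab', hact⟩ := exists_turn_basis h r.2 hinv
  obtain ⟨p, hp⟩ := exists_coords h ha' hb' ha1' hab' haS
  have hpM : coords a' b' p ∈ M := hp ▸ haM
  have hp0 : p ≠ 0 := fun e => ha1 (by rw [← hp, e]; simp [coords])
  have htM : coords a' b' (turn p) ∈ M := by rw [← hact p]; exact (inferInstance : M.Normal).conj_mem _ hpM _
  intro s hs
  obtain ⟨q, rfl⟩ := exists_coords h ha' hb' ha1' hab' hs
  obtain ⟨i, j, rfl⟩ := span_turn p hp0 q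
  rw [coords_add h ha' hb', coords_nsmul h ha' hb', coords_nsmul h ha' hb']
  exact mul_mem (pow_mem hpM _) (pow_mem htM _)

theorem mem_normalizer_subgroupOf {M : Subgroup G} (hSM : S ≤ M) (x : M) :
    x ∈ Subgroup.normalizer (S.subgroupOf M : Set M) ↔ (x : G) ∈ Subgroup.normalizer (S : Set G) := by
  constructor
  · intro hx
    refine Subgroup.mem_normalizer_iff.2 fun s => ⟨fun hs => ?_, fun hs => ?_⟩
    · exact (Subgroup.mem_normalizer_iff.1 hx ⟨s, hSM hs⟩).1 hs
    · have hsM : s ∈ M := by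
        have := mul_mem (mul_mem (inv_mem x.2) (hSM hs)) x.2
        simpa [mul_assoc] using this
      exact (Subgroup.mem_normalizer_iff.1 hx ⟨s, hsM⟩).2 hs
  · intro hx
    exact Subgroup.mem_normalizer_iff.2 fun s => Subgroup.mem_normalizer_iff.1 hx (s : G)

omit [Fintype G] in
theorem Hyp.restrict [Finite G] (h : Hyp S) {M : Subgroup G} (hSM : S ≤ M) : Hyp (S.subgroupOf M) where
  card9 := by rw [Nat.card_congr (Subgroup.subgroupOfEquivOfLe hSM).toEquiv, h.card9]
  exp3 := fun s hs => Subtype.ext (h.exp3 _ hs)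
  syl := fun hd => h.syl (hd.trans (Subgroup.relIndex_dvd_index_of_le hSM))
  loc := fun s hs hs1 c hc => by
    haveI := Fintype.ofFinite G
    refine (mem_normalizer_subgroupOf hSM c).2 (h.loc _ hs (fun e => hs1 (Subtype.ext e)) ?_)
    exact Subgroup.mem_centralizer_singleton_iff.2
      (congrArg Subtype.val (Subgroup.mem_centralizer_singleton_iff.1 hc))

/-- The minimal normal subgroup containing `S` is simple. -/
theorem Dih.simple_of_minimal (D : Dih S φ) (hSn : ¬ S.Normal) {M : Subgroup G} [M.Normal] (hSM : S ≤ M)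
    (hmin : ∀ K : Subgroup G, K.Normal → K ≤ M → K = ⊥ ∨ K = M) : IsSimpleGroup M := by
  have h := D.hyp
  haveI : Fact (Nat.Prime 3) := ⟨Nat.prime_three⟩
  have hMn : M.Normal := inferInstance
  obtain ⟨a, haS, ha1⟩ := h.exists_ne_one
  haveI : Nontrivial M := ⟨⟨⟨a, hSM haS⟩, 1, fun e => ha1 (congrArg Subtype.val e)⟩⟩
  refine ⟨fun H hH => or_iff_not_imp_left.2 fun hH0 => ?_⟩
  haveI := hH
  by_contra hHtop
  obtain ⟨T, hTn, hT0, hTH, hTmin⟩ := CfsgLib.Solvable.Basic.exists_minimal_normal_le (H := H) hH0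
  -- the conjugates of `T` in `G`
  let K : G → Subgroup M := fun g =>
    T.map (MulAut.conjNormal g : MulAut M).toMonoidHom
  have hKn : ∀ g, (K g).Normal := fun g => hTn.map _ (MulEquiv.surjective _)
  have hK0 : ∀ g, K g ≠ ⊥ := fun g e => hT0 ((Subgroup.map_eq_bot_iff_of_injective _
    (MulEquiv.injective _)).1 e)
  have hKmin : ∀ g, ∀ L : Subgroup M, L.Normal → L ≤ K g → L = ⊥ ∨ L = K g := by
    intro g L hL hLK
    have e : (L.comap (MulAut.conjNormal g : MulAut M).toMonoidHom).map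
        (MulAut.conjNormal g : MulAut M).toMonoidHom = L :=
      Subgroup.map_comap_eq_self_of_surjective (MulEquiv.surjective _) L
    rcases hTmin _ (hL.comap _) (le_trans (Subgroup.comap_mono hLK)
      (Subgroup.comap_map_eq_self_of_injective (MulEquiv.injective _) T).le) with e' | e'
    · left; rw [← e, e', Subgroup.map_bot]
    · right; rw [← e, e']
  have hKcomp : ∀ g u, K (u * g) = (K g).map (MulAut.conjNormal u : MulAut M).toMonoidHom := by
    intro g u
    simp only [K, Subgroup.map_map, map_mul]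
    rfl
  have hmeet : ∀ g, ∃ s : M, (s : G) ∈ S ∧ s ≠ 1 ∧ s ∈ K g := by
    intro g
    have h3 : 3 ∣ Nat.card (K g) := by
      by_contra h3
      refine hK0 g ?_
      have := eq_bot_of_coprime h D.cent (K := (K g).map M.subtype) (fun s hs => ?_)
        (by rw [Subgroup.card_map_of_injective M.subtype_injective]; exact h3)
      · exact Subgroup.map_injective M.subtype_injective (this.trans (Subgroup.map_bot _).symm)
      · refine Subgroup.mem_normalizer_iff.2 fun k => ⟨?_, ?_⟩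
        · rintro ⟨y, hy, rfl⟩
          exact ⟨⟨s, hSM hs⟩ * y * ⟨s, hSM hs⟩⁻¹, (hKn g).conj_mem y hy _, rfl⟩
        · rintro ⟨y, hy, hye⟩
          refine ⟨⟨s, hSM hs⟩⁻¹ * y * ⟨s, hSM hs⟩, by simpa using (hKn g).conj_mem y hy ⟨s, hSM hs⟩⁻¹, ?_⟩
          show s⁻¹ * (y : G) * s = k
          rw [show (y : G) = s * k * s⁻¹ from hye]
          group
    obtain ⟨⟨c, hcK⟩, hc⟩ := exists_prime_orderOf_dvd_card' (G := K g) 3 h3
    rw [← Subgroup.orderOf_coe] at hc
    change orderOf c = 3 at hc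
    obtain ⟨m, hm⟩ := (h.restrict hSM).exists_conj_mem (H := Subgroup.zpowers c)
      (IsPGroup.of_card (n := 1) (by rw [Nat.card_zpowers, hc, pow_one]))
    exact ⟨m * c * m⁻¹, hm c (Subgroup.mem_zpowers c),
      fun e => by rw [conj_eq_one_iff.1 e, orderOf_one] at hc; omega, (hKn g).conj_mem c hcK m⟩
  have hother : ∀ g g', K g ≠ K g' → ∀ x ∈ K g', (x : G) ∈ S := by
    intro g g' hne
    haveI := hKn g
    haveI := hKn g'
    have hdis : Disjoint (K g) (K g') := by
      rw [disjoint_iff]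
      refine (hKmin g' _ inferInstance inf_le_right).resolve_right fun e => ?_
      refine hne ((hKmin g _ (hKn g') (e ▸ inf_le_left)).resolve_left (hK0 g')).symm
    obtain ⟨s, hsS, hs1, hsK⟩ := hmeet g
    have hN : ∀ x ∈ K g', (x : G) ∈ Subgroup.normalizer (S : Set G) := fun x hx => by
      refine h.loc _ hsS (fun e => hs1 (Subtype.ext e)) (Subgroup.mem_centralizer_singleton_iff.2 ?_)
      exact congrArg Subtype.val
        (Subgroup.commute_of_normal_of_disjoint _ _ inferInstance inferInstance hdis s x hsK hx).eq.symm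
    let L : Subgroup M := K g' ⊓ S.subgroupOf M
    have hL : L.Normal := ⟨fun x hx m => by
      have hmx := (hKn g').conj_mem x hx.1 m
      refine ⟨hmx, h.mem_of_normalizer (k := 1) (hN _ hmx) ?_⟩
      have hx3 : (x : G) ^ 3 = 1 := h.exp3 _ hx.2
      rw [pow_one]
      change ((m : G) * x * (m : G)⁻¹) ^ 3 = 1
      rw [conj_pow, hx3, mul_one, mul_inv_cancel]⟩
    obtain ⟨s', hs'S, hs'1, hs'K⟩ := hmeet g'
    rcases hKmin g' L hL inf_le_left with e | e
    · exact absurd ((Subgroup.eq_bot_iff_forall _).1 e s' ⟨hs'K, hs'S⟩) hs'1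
    · intro x hx
      exact ((SetLike.ext_iff.1 e x).2 hx).2
  by_cases hall : ∀ g, K g = K 1
  · -- then `T` is normal in `G`
    have hK1 : K 1 = T := by
      show T.map _ = T
      rw [map_one]
      exact Subgroup.map_id T
    haveI : (T.map M.subtype).Normal := ⟨fun x hx g => by
      obtain ⟨y, hy, rfl⟩ := hx
      refine ⟨MulAut.conjNormal g y, ?_, by simp⟩
      rw [← hK1, ← hall g]
      exact ⟨y, hy, rfl⟩⟩
    rcases hmin _ this (Subgroup.map_subtype_le T) with e | e
    · exact hT0 (Subgroup.map_injective M.subtype_injective (e.trans (Subgroup.map_bot _).symm))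
    · refine hHtop (top_le_iff.1 (le_trans ?_ hTH))
      intro x _
      obtain ⟨y, hy, hyx⟩ := (SetLike.ext_iff.1 e (x : G)).2 x.2
      rwa [Subtype.ext hyx] at hy
  · push Not at hall
    obtain ⟨g₀, hg₀⟩ := hall
    have hS' : ∀ g, ∀ x ∈ K g, (x : G) ∈ S := by
      intro g
      by_cases e : K g = K 1
      · rw [e]; exact hother g₀ 1 hg₀
      · exact hother 1 g (Ne.symm e)
    let R : Subgroup G := Subgroup.normalClosure (((K 1).map M.subtype : Subgroup G) : Set G)
    have hR : R ≤ S ⊓ M := by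
      refine Subgroup.closure_le _ |>.2 ?_
      intro z hz
      obtain ⟨y, ⟨w, hw, rfl⟩, hyz⟩ := Group.mem_conjugatesOfSet_iff.1 hz
      obtain ⟨g, rfl⟩ := isConj_iff.1 hyz
      refine ⟨?_, hMn.conj_mem _ w.2 g⟩
      have hmem : MulAut.conjNormal g w ∈ K (g * 1) := by
        rw [hKcomp]; exact ⟨w, hw, rfl⟩
      simpa using hS' _ _ hmem
    rcases hmin R Subgroup.normalClosure_normal (hR.trans inf_le_right) with e | e
    · refine hK0 1 (Subgroup.map_injective M.subtype_injective ?_)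
      rw [Subgroup.map_bot, eq_bot_iff]
      exact Subgroup.subset_normalClosure.trans e.le
    · have hMS : M = S := le_antisymm ((e.ge.trans hR).trans inf_le_left) hSM
      exact hSn (hMS ▸ hMn)

/-- The simple subgroup has order 360 and contains a quarter turn. -/
theorem Dih.card_minimal (D : Dih S φ) (hSn : ¬ S.Normal) {M : Subgroup G} [hMn : M.Normal]
    [IsSimpleGroup M] (hSM : S ≤ M) : Nat.card M = 360 ∧
      Nat.card ↥(Subgroup.normalizer (S : Set G) ⊓ M) = 36 ∧
      ∃ x ∈ Subgroup.normalizer (S : Set G) ⊓ M, x * x ∉ S ∧ x * x * (x * x) ∈ S := by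
  have h := D.hyp
  have h' := h.restrict hSM
  haveI : Fact (Nat.Prime 3) := ⟨Nat.prime_three⟩
  haveI : Fact (Nat.Prime 2) := ⟨Nat.prime_two⟩
  let N := Subgroup.normalizer (S : Set G)
  set S' := S.subgroupOf M with hS'
  set N' := Subgroup.normalizer (S' : Set M) with hN'
  have hNN' : N' = (N ⊓ M).subgroupOf M := Subgroup.ext fun x => by
    rw [hN', mem_normalizer_subgroupOf hSM x, Subgroup.mem_subgroupOf, Subgroup.mem_inf]
    exact ⟨fun hx => ⟨hx, x.2⟩, fun hx => hx.1⟩
  have hcardN' : Nat.card N' = Nat.card ↥(N ⊓ M) := by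
    rw [hNN', Nat.card_congr (Subgroup.subgroupOfEquivOfLe inf_le_right).toEquiv]
  have hC' : Subgroup.centralizer (S' : Set M) ≤ S' := fun x hx => D.cent
    (Subgroup.mem_centralizer_iff.2 fun s hs => congrArg Subtype.val
      (Subgroup.mem_centralizer_iff.1 hx ⟨s, hSM hs⟩ hs))
  have hna : ¬ IsMulCommutative M := by
    refine SmallGroups.SimpleTools.not_comm_of_card fun hp => ?_
    have h9 : Nat.card S ∣ Nat.card M := Subgroup.card_dvd_of_le hSM
    rw [h.card9] at h9
    rcases (Nat.dvd_prime hp).1 h9 with h1 | h1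
    · omega
    · rw [← h1] at hp; norm_num at hp
  have hnn : N' ≠ ⊤ := by
    intro e
    have hn : S'.Normal := Subgroup.normalizer_eq_top_iff.1 e
    rcases hn.eq_bot_or_eq_top with hb | ht
    · have h9 : Nat.card S' = 9 := h'.card9; rw [hb, Subgroup.card_bot] at h9; omega
    · exact hna ⟨⟨fun x y => (h'.comm (ht ▸ Subgroup.mem_top x) (ht ▸ Subgroup.mem_top y)).eq⟩⟩
  have h72 : Nat.card N = 72 := D.card_normalizer
  have hd : Nat.card ↥(N ⊓ M) ∣ 72 := h72 ▸ Subgroup.card_dvd_of_le inf_le_left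
  have h9 : 9 ∣ Nat.card ↥(N ⊓ M) :=
    h.card9 ▸ Subgroup.card_dvd_of_le (le_inf Subgroup.le_normalizer hSM)
  have hcases : Nat.card ↥(N ⊓ M) = 9 ∨ Nat.card ↥(N ⊓ M) = 18 ∨ Nat.card ↥(N ⊓ M) = 36 ∨
      Nat.card ↥(N ⊓ M) = 72 := by
    obtain ⟨e, he⟩ := h9
    rw [he] at hd ⊢
    have : e ∣ 8 := by
      rw [show (72 : ℕ) = 9 * 8 by norm_num] at hd
      exact Nat.dvd_of_mul_dvd_mul_left (by norm_num) hd
    have := Nat.le_of_dvd (by norm_num) this
    interval_cases e <;> omega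
  rcases hcases with hc | hc | hc | hc
  · exfalso
    refine SmallGroups.SimpleTools.not_normalizer_le hna ((show (3 : ℕ) ∣ Nat.card S' by
      rw [hS', h'.card9]; norm_num).trans (Subgroup.card_subgroup_dvd_card S')) h'.sylow ?_
    rw [h'.coe_sylow]
    intro x hx
    have e : S' = N' := Subgroup.eq_of_le_of_card_ge Subgroup.le_normalizer
      (by rw [hcardN', hc, hS', h'.card9])
    have hxS : x ∈ S' := by rw [e]; exact hx
    exact Subgroup.mem_centralizer_iff.2 fun s hs => (h'.comm hs hxS).eq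
  · exfalso
    obtain ⟨r, hr, -, -, hrinv⟩ := D.exists_quarter
    have hNcard : Nat.card (S.subgroupOf (N ⊓ M)) = 9 := by
      rw [Nat.card_congr (Subgroup.subgroupOfEquivOfLe (le_inf Subgroup.le_normalizer hSM)).toEquiv, h.card9]
    have hidx : (S.subgroupOf (N ⊓ M)).index = 2 := by
      have := Subgroup.card_mul_index (S.subgroupOf (N ⊓ M))
      rw [hNcard, hc] at this
      omega
    obtain ⟨x, hx⟩ : ∃ x : ↥(N ⊓ M), (x : G) ∉ S := by
      by_contra hno
      push Not at hno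
      rw [Subgroup.index_eq_one.2 (eq_top_iff.2 fun x _ => Subgroup.mem_subgroupOf.2 (hno x))] at hidx
      omega
    have hmul : ∀ y z : ↥(N ⊓ M), ((y * z : ↥(N ⊓ M)) : G) ∈ S ↔ ((y : G) ∈ S ↔ (z : G) ∈ S) :=
      fun y z => Subgroup.mul_mem_iff_of_index_two hidx
    have hxr : ((r : G) * x * (r : G)⁻¹ * (x : G)⁻¹) ∈ S := by
      have hy : (r : G) * x * (r : G)⁻¹ ∈ N ⊓ M :=
        Subgroup.mem_inf.2 ⟨mul_mem (mul_mem r.2 x.2.1) (inv_mem r.2), hMn.conj_mem _ x.2.2 _⟩
      refine (hmul ⟨_, hy⟩ x⁻¹).2 ⟨fun hm => absurd ?_ hx, fun hm => absurd ((inv_mem_iff (H := S)).1 (show (x : G)⁻¹ ∈ S from hm)) hx⟩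
      exact (Subgroup.mem_normalizer_iff.1 r.2 (x : G)).2 hm
    obtain ⟨a, b, ha, hb, ha1, hab, hact⟩ := exists_turn_basis h r.2 hrinv
    obtain ⟨u, v, hm, -, -⟩ := exists_lin h ha hb ha1 hab x.2.1
    have hxx : (x : G) * x ∈ S := (hmul x x).2 Iff.rfl
    have e2 : ∀ p, lin u v (lin u v p) = p := iterate_eq_id h ha hb ha1 hab (hm.mul hm) hxx
    have ecomm : ∀ p, lin u v (turn p) = turn (lin u v p) := by
      intro p
      refine coords_inj h ha hb ha1 hab ?_
      show coords a b ((lin u v ∘ turn) p) = coords a b ((turn ∘ lin u v) p)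
      rw [← hact.mul hm p, ← hm.mul hact p]
      have hz := h.comm hxr (h.conj_mem (mul_mem x.2.1 r.2) (coords_mem a b ha hb p))
      calc ((x : G) * r) * coords a b p * ((x : G) * r)⁻¹
          = ((r : G) * x * (r : G)⁻¹ * (x : G)⁻¹) * (((x : G) * r) * coords a b p * ((x : G) * r)⁻¹)
            * ((r : G) * x * (r : G)⁻¹ * (x : G)⁻¹)⁻¹ := by rw [hz.eq, mul_inv_cancel_right]
        _ = ((r : G) * x) * coords a b p * ((r : G) * x)⁻¹ := by group
    rcases lin_comm_turn u v e2 ecomm with he | he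
    · exact hx (mem_of_acts_id h D.cent ha hb ha1 hab hm he)
    · refine hnn (inversion_top h' (hcardN'.trans hc)
        ((mem_normalizer_subgroupOf hSM ⟨x, x.2.2⟩).2 x.2.1) fun s hs => Subtype.ext ?_)
      obtain ⟨p, hp⟩ := exists_coords h ha hb ha1 hab hs
      change (x : G) * (s : G) * (x : G)⁻¹ = (s : G)⁻¹
      rw [show (s : G) = coords a b p from hp.symm, hm p, he]
      refine eq_inv_of_mul_eq_one_left ?_
      rw [← coords_add h ha hb, neg_add_cancel]
      simp [coords]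
  · obtain ⟨x, hxmem, hxx, hx4⟩ : ∃ x ∈ N ⊓ M, x * x ∉ S ∧ x * x * (x * x) ∈ S := by
      by_contra hno
      push Not at hno
      refine hnn (klein_top h' hC' (hcardN'.trans hc) fun x hx => ?_)
      have hxN := (mem_normalizer_subgroupOf hSM x).1 hx
      by_contra hxS
      refine hno (x : G) ⟨hxN, x.2⟩ hxS ((D.ker (⟨x, hxN⟩ * ⟨x, hxN⟩ * (⟨x, hxN⟩ * ⟨x, hxN⟩))).1 ?_)
      rw [map_mul, map_mul]
      exact dihedral_four _
    refine ⟨cyclic_order hna h' (hcardN'.trans hc) hnn (x := ⟨x, hxmem.2⟩)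
      ((mem_normalizer_subgroupOf hSM ⟨x, hxmem.2⟩).2 hxmem.1) fun s hs => Subtype.ext ?_, hc, x, hxmem, hxx, hx4⟩
    exact square_inverts h D.cent hxmem.1 hxx hx4 (s : G) hs
  · exfalso
    have hNM : N ≤ M := by
      have := Subgroup.eq_of_le_of_card_ge (inf_le_left : N ⊓ M ≤ N) (by rw [hc, h72])
      exact this.ge.trans inf_le_right
    refine Cfsg.Agent.S3716.result h'.sylow h'.card9 h'.exp3 (le_antisymm hC' ?_) N' rfl h'.loc ?_ ‹_›
    · exact fun x hx => Subgroup.mem_centralizer_iff.2 fun s hs => (h'.comm hs hx).eq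
    intro P
    let ι : N' →* ↥N := (M.subtype.comp N'.subtype).codRestrict N fun x =>
      (mem_normalizer_subgroupOf hSM (x : M)).1 x.2
    let ψ := (φ.comp ι).comp (P : Subgroup N').subtype
    have hP8 : Nat.card (P : Subgroup N') = 8 := by
      rw [Sylow.card_eq_multiplicity, hcardN', hc]
      decide +kernel
    have hinj : Function.Injective ψ := by
      refine (injective_iff_map_eq_one ψ).2 fun y hy => ?_
      have hyS : ((y : N') : M).1 ∈ S := (D.ker (ι (y : N'))).1 (by simpa [ψ] using hy)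
      have h3 : orderOf y ∣ 3 := orderOf_dvd_of_pow_eq_one
        (Subtype.ext (Subtype.ext (Subtype.ext (h.exp3 _ hyS))))
      have h8 : orderOf y ∣ 8 := hP8 ▸ orderOf_dvd_natCard y
      exact orderOf_eq_one_iff.1 (Nat.dvd_one.1 (by simpa using Nat.dvd_gcd h3 h8))
    exact ⟨MulEquiv.ofBijective ψ ((Fintype.bijective_iff_injective_and_card ψ).2 ⟨hinj, by
      rw [← Nat.card_eq_fintype_card, ← Nat.card_eq_fintype_card, hP8, DihedralGroup.nat_card]⟩)⟩

end CfsgLib.Char.SylowNine
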