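import Mathlib

/-!
# Elementary Sylow 3-subgroups of order nine with local centralisers: products of two elements

If `u`, `v` and `u * v` have order three they generate a quotient of the triangle group `(3,3,3)`, an
abelian group extended by an element of order three.  Hence, when `u * v` lies in the Sylow 3-subgroup `S`
and the centraliser of every nonidentity element of `S` normalises `S`, either `u` and `v` lie in `S` or
`u`, `v` and `(u * v)⁻¹` are conjugate.
-/

set_option autoImplicit false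

open scoped Classical

namespace CfsgLib.Char.SylowNine

variable {G : Type*} [Group G] [Finite G]

/-- An elementary Sylow 3-subgroup of order nine with local centralisers. -/
structure Hyp (S : Subgroup G) : Prop where
  card9 : Nat.card S = 9
  exp3 : ∀ s ∈ S, s ^ 3 = 1
  syl : ¬ 3 ∣ S.index
  loc : ∀ s ∈ S, s ≠ 1 → Subgroup.centralizer ({s} : Set G) ≤ Subgroup.normalizer (S : Set G)

variable {S : Subgroup G}

theorem Hyp.isPGroup (h : Hyp S) : IsPGroup 3 S := IsPGroup.of_card (n := 2) h.card9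

/-- The Sylow subgroup attached. -/
noncomputable def Hyp.sylow (h : Hyp S) : Sylow 3 G :=
  haveI : Fact (Nat.Prime 3) := ⟨Nat.prime_three⟩
  IsPGroup.toSylow h.isPGroup h.syl

theorem Hyp.coe_sylow (h : Hyp S) : ((h.sylow : Sylow 3 G) : Subgroup G) = S := rfl

theorem Hyp.comm (h : Hyp S) {a b : G} (ha : a ∈ S) (hb : b ∈ S) : Commute a b := by
  haveI : Fact (Nat.Prime 3) := ⟨Nat.prime_three⟩
  have := IsPGroup.commutative_of_card_eq_prime_sq (G := S) (p := 3) (by rw [h.card9]; norm_num)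
    ⟨a, ha⟩ ⟨b, hb⟩
  exact congrArg Subtype.val this

theorem Hyp.mem_of_normalizer (h : Hyp S) {x : G} (hx : x ∈ Subgroup.normalizer (S : Set G)) {k : ℕ}
    (hk : x ^ 3 ^ k = 1) : x ∈ S := by
  haveI : Fact (Nat.Prime 3) := ⟨Nat.prime_three⟩
  obtain ⟨j, -, hj⟩ := (Nat.dvd_prime_pow Nat.prime_three).1 (orderOf_dvd_of_pow_eq_one hk)
  have hp : IsPGroup 3 (Subgroup.zpowers x) :=
    IsPGroup.of_card (n := j) (by rw [Nat.card_zpowers, hj])
  have h2 := IsPGroup.to_sup_of_normal_left' h.isPGroup hp (Subgroup.zpowers_le.2 hx)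
  have := h.sylow.3 h2 le_sup_left
  exact (SetLike.ext_iff.1 this x).1 (Subgroup.mem_sup_right (Subgroup.mem_zpowers x))

theorem Hyp.exists_conj_mem (h : Hyp S) {H : Subgroup G} (hH : IsPGroup 3 H) :
    ∃ c : G, ∀ x ∈ H, c * x * c⁻¹ ∈ S := by
  haveI : Fact (Nat.Prime 3) := ⟨Nat.prime_three⟩
  obtain ⟨Q, hQ⟩ := hH.exists_le_sylow
  obtain ⟨c, hc⟩ := MulAction.exists_smul_eq G Q h.sylow
  refine ⟨c, fun x hx => ?_⟩
  rw [← h.coe_sylow, ← hc]
  exact Subgroup.smul_mem_pointwise_smul _ (MulAut.conj c) _ (hQ hx)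

/-- Conjugacy inside `S` is controlled by its normaliser. -/
theorem Hyp.mem_normalizer_of_conj (h : Hyp S) {s g : G} (hs : s ∈ S) (hs1 : s ≠ 1)
    (hg : g * s * g⁻¹ ∈ S) : g ∈ Subgroup.normalizer (S : Set G) := by
  have key : ∀ x ∈ S, g * x * g⁻¹ ∈ S := by
    intro x hx
    refine h.mem_of_normalizer (k := 1) (h.loc _ hg (fun e => hs1 (conj_eq_one_iff.1 e)) ?_) ?_
    · refine Subgroup.mem_centralizer_singleton_iff.2 ?_
      show g * x * g⁻¹ * (g * s * g⁻¹) = g * s * g⁻¹ * (g * x * g⁻¹)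
      rw [show g * x * g⁻¹ * (g * s * g⁻¹) = g * (x * s) * g⁻¹ by group, (h.comm hx hs).eq]
      group
    · rw [pow_one, conj_pow, h.exp3 x hx, mul_one, mul_inv_cancel]
  refine Subgroup.mem_normalizer_iff.2 fun x => ⟨key x, fun hx => ?_⟩
  let f : S → S := fun y => ⟨g * y * g⁻¹, key y y.2⟩
  have hf : Function.Injective f := fun y z e => by
    have := congrArg Subtype.val e
    exact Subtype.ext (mul_left_cancel (mul_right_cancel this))
  obtain ⟨y, hy⟩ := (Finite.injective_iff_surjective.1 hf) ⟨_, hx⟩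
  have := congrArg Subtype.val hy
  rw [← mul_left_cancel (mul_right_cancel this)]
  exact y.2

/-- Products of elements of order three inside `S`. -/
theorem Hyp.mem_of_mul_mem (h : Hyp S) {u v : G} (hu : u ^ 3 = 1) (hv : v ^ 3 = 1)
    (hz : u * v ∈ S) (hz1 : u * v ≠ 1) (hne : ¬ (IsConj u v ∧ IsConj u (u * v)⁻¹)) :
    u ∈ S ∧ v ∈ S := by
  haveI : Fact (Nat.Prime 3) := ⟨Nat.prime_three⟩
  have hz3 : (u * v) ^ 3 = 1 := h.exp3 _ hz
  have hui : u⁻¹ = u * u := inv_eq_of_mul_eq_one_right (by rw [← mul_assoc, ← pow_three', hu])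
  have hvi : v⁻¹ = v * v := inv_eq_of_mul_eq_one_right (by rw [← mul_assoc, ← pow_three', hv])
  have huvu : u * v * u = (v * u * v)⁻¹ := by
    refine (inv_eq_of_mul_eq_one_left ?_).symm
    rw [← hz3, pow_three']
    group
  set a := u * v⁻¹ with ha
  set b := v⁻¹ * u with hb
  have hab : Commute a b := by
    have e1 : a * b = u * v * u := by
      calc a * b = u * (v⁻¹ * v⁻¹) * u := by rw [ha, hb]; group
        _ = u * v * u := by rw [← mul_inv_rev, ← hvi, inv_inv]
    have e2 : b * a = (v * u * v)⁻¹ := by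
      calc b * a = v⁻¹ * (u * u) * v⁻¹ := by rw [ha, hb]; group
        _ = (v * u * v)⁻¹ := by rw [← hui]; group
    show a * b = b * a
    rw [e1, e2, huvu]
  have hau : u⁻¹ * a * u = b := by rw [ha, hb]; group
  have hbu : u⁻¹ * b * u = (a * b)⁻¹ := by
    have e : a * b * (u⁻¹ * b * u) = 1 := by
      calc a * b * (u⁻¹ * b * u) = (u * (v⁻¹ * v⁻¹) * u) * (u⁻¹ * v⁻¹ * (u * u)) := by rw [ha, hb]; group
        _ = (u * v * u) * (v * u * v) := by
          have e1 : v⁻¹ * v⁻¹ = v := by rw [← mul_inv_rev, ← hvi, inv_inv]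
          have e2 : u⁻¹ * v⁻¹ * (u * u) = v * u * v := by
            rw [← hui, ← inv_inj, ← huvu]; group
          rw [e1, e2]
        _ = 1 := by rw [huvu, inv_mul_cancel]
    exact (inv_eq_of_mul_eq_one_right e).symm
  set A := Subgroup.closure ({a, b} : Set G) with hA
  have haA : a ∈ A := Subgroup.subset_closure (Set.mem_insert _ _)
  have hbA : b ∈ A := Subgroup.subset_closure (Set.mem_insert_of_mem _ rfl)
  have hcom : ∀ r ∈ A, ∀ q ∈ A, Commute r q := by
    haveI : IsMulCommutative A := Subgroup.isMulCommutative_closure (by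
      rintro x (rfl | rfl) y (rfl | rfl)
      exacts [rfl, hab.eq, hab.eq.symm, rfl])
    intro r hr q hq
    exact congrArg Subtype.val (mul_comm' (⟨r, hr⟩ : A) ⟨q, hq⟩)
  have hinv : ∀ r ∈ A, u⁻¹ * r * u ∈ A := by
    intro r hr
    induction hr using Subgroup.closure_induction with
    | mem x hx =>
      rcases hx with rfl | rfl
      · rw [hau]; exact hbA
      · rw [hbu]; exact inv_mem (mul_mem haA hbA)
    | one => simp
    | mul x y _ _ hx hy =>
      rw [show u⁻¹ * (x * y) * u = u⁻¹ * x * u * (u⁻¹ * y * u) by group]; exact mul_mem hx hy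
    | inv x _ hx =>
      rw [show u⁻¹ * x⁻¹ * u = (u⁻¹ * x * u)⁻¹ by group]; exact inv_mem hx
  have hinv' : ∀ r ∈ A, u * r * u⁻¹ ∈ A := by
    intro r hr
    have := hinv _ (hinv r hr)
    rwa [show u⁻¹ * (u⁻¹ * r * u) * u = (u * u)⁻¹ * r * (u * u) by group, ← hui, inv_inv] at this
  have hvu : v = u * b⁻¹ := by rw [hb]; group
  by_cases h3 : 3 ∣ Nat.card A
  · -- the three-part of `A` puts `u` and `v` into one conjugate of `S`
    obtain ⟨⟨q₀, hq₀⟩, hq₀o⟩ := exists_prime_orderOf_dvd_card' 3 h3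
    rw [← Subgroup.orderOf_coe] at hq₀o
    change orderOf q₀ = 3 at hq₀o
    let Q : Subgroup G :=
      { carrier := {q | q ∈ A ∧ q ^ 3 = 1}
        one_mem' := ⟨one_mem A, one_pow 3⟩
        mul_mem' := fun {x y} hx hy => ⟨mul_mem hx.1 hy.1, by
          rw [(hcom x hx.1 y hy.1).mul_pow, hx.2, hy.2, mul_one]⟩
        inv_mem' := fun {x} hx => ⟨inv_mem hx.1, by rw [inv_pow, hx.2, inv_one]⟩ }
    have hQp : IsPGroup 3 Q := fun q => ⟨1, Subtype.ext (by simpa using q.2.2)⟩
    have hup : IsPGroup 3 (Subgroup.zpowers u) := by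
      obtain ⟨j, -, hj⟩ := (Nat.dvd_prime_pow Nat.prime_three).1
        (orderOf_dvd_of_pow_eq_one (show u ^ 3 ^ 1 = 1 by rw [pow_one, hu]))
      exact IsPGroup.of_card (n := j) (by rw [Nat.card_zpowers, hj])
    have hun : u ∈ Subgroup.normalizer (Q : Set G) := by
      refine Subgroup.mem_normalizer_iff.2 fun q => ⟨fun hq => ⟨hinv' q hq.1, ?_⟩, fun hq => ⟨?_, ?_⟩⟩
      · rw [conj_pow, hq.2, mul_one, mul_inv_cancel]
      · have := hinv _ hq.1
        rwa [show u⁻¹ * (u * q * u⁻¹) * u = q by group] at this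
      · have := hq.2
        rw [conj_pow] at this
        exact conj_eq_one_iff.1 this
    obtain ⟨c, hc⟩ := h.exists_conj_mem
      (IsPGroup.to_sup_of_normal_left' hQp hup (Subgroup.zpowers_le.2 hun))
    have hcu : c * u * c⁻¹ ∈ S := hc u (Subgroup.mem_sup_right (Subgroup.mem_zpowers u))
    have hq03 : q₀ ^ 3 = 1 := hq₀o ▸ pow_orderOf_eq_one q₀
    have hcq : c * q₀ * c⁻¹ ∈ S := hc q₀ (Subgroup.mem_sup_left (show q₀ ∈ Q from ⟨hq₀, hq03⟩))
    have hcq1 : c * q₀ * c⁻¹ ≠ 1 := fun e => by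
      rw [conj_eq_one_iff] at e
      rw [e, orderOf_one] at hq₀o
      omega
    have hcb : c * b * c⁻¹ ∈ Subgroup.normalizer (S : Set G) := h.loc _ hcq hcq1
      (Subgroup.mem_centralizer_singleton_iff.2 (by
        rw [show c * b * c⁻¹ * (c * q₀ * c⁻¹) = c * (b * q₀) * c⁻¹ by group,
          (hcom b hbA q₀ hq₀).eq]
        group))
    have hcv : c * v * c⁻¹ ∈ S := by
      refine h.mem_of_normalizer (k := 1) ?_ (by rw [pow_one, conj_pow, hv, mul_one, mul_inv_cancel])
      rw [hvu, show c * (u * b⁻¹) * c⁻¹ = c * u * c⁻¹ * (c * b * c⁻¹)⁻¹ by group]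
      exact mul_mem (Subgroup.le_normalizer hcu) (inv_mem hcb)
    have hcz : c * (u * v) * c⁻¹ ∈ S := by
      rw [show c * (u * v) * c⁻¹ = c * u * c⁻¹ * (c * v * c⁻¹) by group]; exact mul_mem hcu hcv
    have hcN := h.mem_normalizer_of_conj hz hz1 hcz
    rw [Subgroup.mem_normalizer_iff] at hcN
    exact ⟨(hcN u).2 hcu, (hcN v).2 hcv⟩
  · -- otherwise all elements of order three in `u A` are conjugate to `u`
    exfalso
    have hprod : ∀ r ∈ A, r * (u⁻¹ * r * u) * (u⁻¹ * (u⁻¹ * r * u) * u) = 1 := by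
      intro r hr
      induction hr using Subgroup.closure_induction with
      | mem x hx =>
        rcases hx with rfl | rfl
        · rw [hau, hbu, mul_inv_cancel]
        · rw [hbu, show u⁻¹ * (a * b)⁻¹ * u = (u⁻¹ * b * u)⁻¹ * (u⁻¹ * a * u)⁻¹ by group, hbu, hau,
            inv_inv]
          rw [show b * (a * b)⁻¹ * (a * b * b⁻¹) = b * b⁻¹ by group, mul_inv_cancel]
      | one => simp
      | mul x y hxA hyA hx hy =>
        set x' := u⁻¹ * x * u with hx'
        set y' := u⁻¹ * y * u with hy'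
        set x'' := u⁻¹ * x' * u with hx''
        set y'' := u⁻¹ * y' * u with hy''
        have hx'A : x' ∈ A := hinv _ hxA
        have hy'A : y' ∈ A := hinv _ hyA
        have hx''A : x'' ∈ A := hinv _ hx'A
        rw [show u⁻¹ * (x * y) * u = x' * y' by rw [hx', hy']; group,
          show u⁻¹ * (x' * y') * u = x'' * y'' by rw [hx'', hy'']; group]
        calc x * y * (x' * y') * (x'' * y'') = x * (y * x') * (y' * x'') * y'' := by group
          _ = x * (x' * y) * (x'' * y') * y'' := by rw [(hcom y hyA x' hx'A).eq, (hcom y' hy'A x'' hx''A).eq]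
          _ = x * x' * (y * x'') * y' * y'' := by group
          _ = x * x' * (x'' * y) * y' * y'' := by rw [(hcom y hyA x'' hx''A).eq]
          _ = (x * x' * x'') * (y * y' * y'') := by group
          _ = 1 := by rw [hx, hy, mul_one]
      | inv x hxA hx =>
        set x' := u⁻¹ * x * u with hx'
        set x'' := u⁻¹ * x' * u with hx''
        have hx'A : x' ∈ A := hinv _ hxA
        have hx''A : x'' ∈ A := hinv _ hx'A
        rw [show u⁻¹ * x⁻¹ * u = x'⁻¹ by rw [hx']; group,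
          show u⁻¹ * x'⁻¹ * u = x''⁻¹ by rw [hx'']; group, ← inv_one, ← hx,
          show (x * x' * x'')⁻¹ = x''⁻¹ * (x'⁻¹ * x⁻¹) by group]
        rw [← (hcom x⁻¹ (inv_mem hxA) x'⁻¹ (inv_mem hx'A)).eq]
        exact (hcom _ (mul_mem (inv_mem hxA) (inv_mem hx'A)) _ (inv_mem hx''A)).eq
    let f : A → A := fun r => ⟨r * (u * (r : G)⁻¹ * u⁻¹), mul_mem r.2 (hinv' _ (inv_mem r.2))⟩
    have hf : Function.Injective f := by
      intro r s e
      have e' : (r : G) * (u * (r : G)⁻¹ * u⁻¹) = s * (u * (s : G)⁻¹ * u⁻¹) := congrArg Subtype.val e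
      set q := (s : G)⁻¹ * r with hq
      have hqA : q ∈ A := mul_mem (inv_mem s.2) r.2
      have hqu : u * q * u⁻¹ = q := by
        have h1 : (s : G)⁻¹ * r = u * (s : G)⁻¹ * u⁻¹ * (u * (r : G)⁻¹ * u⁻¹)⁻¹ := by
          rw [eq_mul_inv_iff_mul_eq, mul_assoc, e', inv_mul_cancel_left]
        calc u * q * u⁻¹ = u * (s : G)⁻¹ * u⁻¹ * (u * (r : G)⁻¹ * u⁻¹)⁻¹ := by rw [hq]; group
          _ = q := by rw [hq, ← h1]
      have hq' : u⁻¹ * q * u = q := by
        nth_rw 1 [← hqu]
        group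
      have h3q : q ^ 3 = 1 := by
        have := hprod q hqA
        rw [hq', hq'] at this
        rw [pow_three']; exact this
      have hq1 : q = 1 := by
        by_contra hq1
        refine h3 ?_
        rw [← orderOf_eq_prime h3q hq1]
        exact Subgroup.orderOf_dvd_natCard A hqA
      exact Subtype.ext (inv_mul_eq_one.1 hq1).symm
    have hconj : ∀ w : G, w * u⁻¹ ∈ A → IsConj u w := by
      intro w hw
      obtain ⟨r, hr⟩ := Finite.injective_iff_surjective.1 hf ⟨_, hw⟩
      have hr' : (r : G) * (u * (r : G)⁻¹ * u⁻¹) = w * u⁻¹ := congrArg Subtype.val hr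
      refine isConj_iff.2 ⟨r, ?_⟩
      calc (r : G) * u * (r : G)⁻¹ = (r : G) * (u * (r : G)⁻¹ * u⁻¹) * u := by group
        _ = w := by rw [hr', inv_mul_cancel_right]
    refine hne ⟨hconj v ?_, hconj _ ?_⟩
    · rw [show v * u⁻¹ = (u * v⁻¹)⁻¹ by group, ← ha]; exact inv_mem haA
    · rw [show (u * v)⁻¹ * u⁻¹ = v⁻¹ * (u * u)⁻¹ by group, ← hui, inv_inv, ← hb]; exact hbA

end CfsgLib.Char.SylowNine
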