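import Cfsg.Agent.S0840
import Cfsg.Agent.Lib.Char.SylowNine.Triangle
import Cfsg.Agent.Lib.Char.Orth
import Cfsg.Agent.Lib.Char.Integral
import Cfsg.Agent.Lib.Blocks.Basic
import Cfsg.Agent.Lib.Blocks.Defect
import Cfsg.Agent.Lib.Char.CentralTICongruence

/-!
# Character values and structure constants on an elementary Sylow subgroup of order nine

With coordinates on `S` and the fusion pattern given, the values of the irreducible characters on `S` are
integers satisfying congruences, orthogonality and exact structure constant equations.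
-/

set_option autoImplicit false

open scoped Classical

namespace CfsgLib.Char.SylowNine

open Cfsg CfsgLib ComplexConjugate

universe u

variable {G : Type u} [Group G] [Fintype G]

/-- The coordinate plane. -/
abbrev Pl := ZMod 3 × ZMod 3

/-- Coordinates on `S` together with a fusion pattern in which every element is real. -/
structure Coord (S : Subgroup G) (ι : Type) where
  hyp : Hyp S
  e : Pl → G
  mem : ∀ p, e p ∈ S
  inj : Function.Injective e
  hom : ∀ p q, e (p + q) = e p * e q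
  cls : Pl → ι
  fus : ∀ p q, IsConj (e p) (e q) ↔ cls p = cls q
  real : ∀ p, cls (-p) = cls p

variable {S : Subgroup G} {ι : Type} [DecidableEq ι] (C : Coord S ι)

namespace Coord

omit [Fintype G] [DecidableEq ι] in
theorem e_zero : C.e 0 = 1 := by
  have := C.hom 0 0
  rw [add_zero] at this
  exact left_eq_mul.1 this

omit [Fintype G] [DecidableEq ι] in
theorem e_neg (p : Pl) : C.e (-p) = (C.e p)⁻¹ :=
  eq_inv_of_mul_eq_one_left (by rw [← C.hom, neg_add_cancel, C.e_zero])

omit [Fintype G] [DecidableEq ι] in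
theorem e_ne_one {p : Pl} (hp : p ≠ 0) : C.e p ≠ 1 := fun h => hp (C.inj (h.trans C.e_zero.symm))

omit [DecidableEq ι] in
theorem exists_coord {s : G} (hs : s ∈ S) : ∃ p, C.e p = s := by
  let f : Pl → S := fun p => ⟨C.e p, C.mem p⟩
  have hf : Function.Injective f := fun p q h => C.inj (congrArg Subtype.val h)
  have hbij : Function.Bijective f := (Fintype.bijective_iff_injective_and_card f).2 ⟨hf, by
    rw [← Nat.card_eq_fintype_card (α := S), C.hyp.card9, Fintype.card_prod, ZMod.card]⟩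
  obtain ⟨p, hp⟩ := hbij.2 ⟨s, hs⟩
  exact ⟨p, congrArg Subtype.val hp⟩

omit [Fintype G] [DecidableEq ι] in
theorem cls_ne_zero {p : Pl} (hp : p ≠ 0) : C.cls p ≠ C.cls 0 := fun h => by
  have := (C.fus p 0).2 h
  rw [C.e_zero] at this
  exact C.e_ne_one hp (isConj_one_left.1 this)

omit [Fintype G] [DecidableEq ι] in
theorem isConj_inv (p : Pl) : IsConj (C.e p) (C.e p)⁻¹ := by
  rw [← C.e_neg, C.fus, C.real]

omit [DecidableEq ι] in
theorem pow_three (p : Pl) : C.e p ^ 3 = 1 := C.hyp.exp3 _ (C.mem p)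

/-- The values are integers congruent to the degree modulo three. -/
theorem exists_value (χ : IrrCharacter G) (p : Pl) :
    ∃ n : ℤ, (χ : G → ℂ) (C.e p) = n ∧ (3 : ℤ) ∣ n - charDegree (χ : G → ℂ) := by
  set g := C.e p with hgdef
  have hg : g ^ 3 = 1 := C.pow_three p
  have hreal : IsConj g g⁻¹ := C.isConj_inv p
  obtain ⟨n, ρ, hρ, he⟩ := χ.2
  obtain ⟨μ, h1, h2⟩ := exists_eigenvalues ρ g
  have hμ3 : ∀ a, μ a ^ 3 = 1 := fun a => by
    obtain ⟨m, hm⟩ := orderOf_dvd_of_pow_eq_one hg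
    rw [hm, pow_mul, h1, one_pow]
  have v : ∀ k : ℕ, (χ : G → ℂ) (g ^ k) = ∑ a, μ a ^ k := fun k => by rw [← he]; exact h2 k
  have hv2 : (χ : G → ℂ) (g ^ 2) = (χ : G → ℂ) g := by
    rw [show g ^ 2 = g⁻¹ from eq_inv_of_mul_eq_one_left (by rw [← pow_succ, hg])]
    exact IsClassFunction.apply_eq_of_isConj (IsIrrCharacter.isClassFunction χ.2) hreal.symm
  set T := Finset.univ.filter fun a => μ a ≠ 1 with hT
  have hsum : ∀ a, μ a + μ a ^ 2 = if μ a ≠ 1 then (-1 : ℂ) else 2 := by
    intro a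
    split_ifs with h
    · have : (μ a - 1) * (μ a ^ 2 + μ a + 1) = 0 := by linear_combination hμ3 a
      linear_combination (mul_eq_zero.1 this).resolve_left (sub_ne_zero.2 h)
    · rw [not_not] at h; rw [h]; norm_num
  have hd : (charDegree (χ : G → ℂ) : ℂ) = (Finset.univ.filter fun a => μ a ≠ 1).card
      + (Finset.univ.filter fun a => ¬ μ a ≠ 1).card := by
    rw [← Blocks.irr_one_eq, ← pow_zero g, v]
    simp only [pow_zero, Finset.sum_const, nsmul_eq_mul, mul_one]
    rw [← Nat.cast_add, Finset.card_filter_add_card_filter_not]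
  have h2v : 2 * (χ : G → ℂ) g = 2 * (charDegree (χ : G → ℂ) : ℂ) - 3 * T.card := by
    have e1 := v 1
    rw [pow_one] at e1
    simp only [pow_one] at e1
    have e2 := v 2
    rw [hv2] at e2
    calc 2 * (χ : G → ℂ) g = ∑ a, μ a + ∑ a, μ a ^ 2 := by rw [← e1, ← e2]; ring
      _ = ∑ a, if μ a ≠ 1 then (-1 : ℂ) else 2 := by
        rw [← Finset.sum_add_distrib]; exact Finset.sum_congr rfl fun a _ => hsum a
      _ = _ := by
        rw [Finset.sum_ite, Finset.sum_const, Finset.sum_const, nsmul_eq_mul, nsmul_eq_mul, hd, hT]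
        ring
  obtain ⟨z, hz⟩ : ∃ z : ℤ, ((2 * (charDegree (χ : G → ℂ) : ℤ) - 3 * T.card : ℤ) : ℂ) / (2 : ℕ) = z := by
    refine exists_int_of_isIntegral_rat (z := _) ?_
      (q := ((2 * (charDegree (χ : G → ℂ) : ℤ) - 3 * T.card : ℤ) : ℚ) / 2) (by push_cast; ring)
    have e : ((2 * (charDegree (χ : G → ℂ) : ℤ) - 3 * T.card : ℤ) : ℂ) / (2 : ℕ) = (χ : G → ℂ) g := by
      push_cast
      rw [← h2v]
      ring
    rw [e]
    exact Blocks.irr_isIntegral χ g
  have hzv : (χ : G → ℂ) g = z := by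
    rw [← hz]; push_cast; rw [← h2v]; ring
  refine ⟨z, hzv, ?_⟩
  have h2z : 2 * z = 2 * (charDegree (χ : G → ℂ) : ℤ) - 3 * T.card := by
    have h := h2v
    rw [hzv] at h
    exact_mod_cast h
  omega

/-- The value of `χ` at the point `p`. -/
noncomputable def val (χ : IrrCharacter G) (p : Pl) : ℤ := (C.exists_value χ p).choose

theorem val_spec (χ : IrrCharacter G) (p : Pl) : (χ : G → ℂ) (C.e p) = C.val χ p :=
  (C.exists_value χ p).choose_spec.1

theorem val_congr (χ : IrrCharacter G) (p q : Pl) : (3 : ℤ) ∣ C.val χ p - C.val χ q := by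
  have := dvd_sub (C.exists_value χ p).choose_spec.2 (C.exists_value χ q).choose_spec.2
  rwa [sub_sub_sub_cancel_right] at this

theorem val_zero (χ : IrrCharacter G) : C.val χ 0 = charDegree (χ : G → ℂ) := by
  have h := C.val_spec χ 0
  rw [C.e_zero, Blocks.irr_one_eq] at h
  exact_mod_cast h.symm

theorem val_cls (χ : IrrCharacter G) {p q : Pl} (h : C.cls p = C.cls q) : C.val χ p = C.val χ q := by
  have e := IsClassFunction.apply_eq_of_isConj (IsIrrCharacter.isClassFunction χ.2) ((C.fus p q).2 h)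
  rw [C.val_spec, C.val_spec] at e
  exact_mod_cast e

theorem val_triv (p : Pl) : C.val (Blocks.trivChar G) p = 1 := by
  have h := C.val_spec (Blocks.trivChar G) p
  change (1 : ℂ) = _ at h
  exact_mod_cast h.symm

/-- The values over `S` sum to a multiple of nine. -/
theorem val_sum (χ : IrrCharacter G) : (9 : ℤ) ∣ ∑ p : Pl, C.val χ p := by
  have h := Blocks.isIntegral_average_coset (1 : G) S (fun x _ => Commute.one_left x) χ
  have e : ∑ x : S, (χ : G → ℂ) (1 * x) = ((∑ p : Pl, C.val χ p : ℤ) : ℂ) := by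
    push_cast
    symm
    refine Fintype.sum_bijective (fun p => (⟨C.e p, C.mem p⟩ : S)) ⟨fun p q h => C.inj (congrArg Subtype.val h),
      fun s => by obtain ⟨p, hp⟩ := C.exists_coord s.2; exact ⟨p, Subtype.ext hp⟩⟩ _ _ fun p => ?_
    rw [one_mul, C.val_spec]
  rw [e, C.hyp.card9] at h
  obtain ⟨z, hz⟩ := exists_int_of_isIntegral_rat h (q := ((∑ p : Pl, C.val χ p : ℤ) : ℚ) / 9)
    (by push_cast; ring)
  refine ⟨z, ?_⟩
  have : ((∑ p : Pl, C.val χ p : ℤ) : ℂ) = ((9 * z : ℤ) : ℂ) := by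
    rw [Int.cast_mul, ← hz, ← mul_assoc]; norm_num
  exact_mod_cast this

/-- The order of the centraliser. -/
noncomputable def cent (p : Pl) : ℕ := Nat.card (Subgroup.centralizer ({C.e p} : Set G))

theorem orth (p q : Pl) :
    ∑ χ : IrrCharacter G, C.val χ p * C.val χ q = if C.cls p = C.cls q then (C.cent q : ℤ) else 0 := by
  have h := sum_irr_mul_conj (C.e p) (C.e q)
  simp only [C.val_spec, map_intCast] at h
  by_cases hc : C.cls p = C.cls q
  · rw [if_pos hc]
    rw [if_pos ((C.fus p q).2 hc)] at h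
    exact_mod_cast h
  · rw [if_neg hc]
    rw [if_neg (fun h' => hc ((C.fus p q).1 h'))] at h
    exact_mod_cast h

theorem orth_deg {p : Pl} (hp : p ≠ 0) :
    ∑ χ : IrrCharacter G, (charDegree (χ : G → ℂ) : ℤ) * C.val χ p = 0 := by
  have h := C.orth 0 p
  rw [if_neg (fun e => C.cls_ne_zero hp e.symm)] at h
  simpa only [C.val_zero] using h

theorem cent_mul_fiber {p : Pl} (hp : p ≠ 0) :
    C.cent p * (Finset.univ.filter fun q => C.cls q = C.cls p).card
      = Nat.card (Subgroup.normalizer (S : Set G)) := by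
  set N := Subgroup.normalizer (S : Set G)
  have hN : C.e p ∈ N := Subgroup.le_normalizer (C.mem p)
  have hc := card_conjugates_mul (⟨C.e p, hN⟩ : N)
  have h1 : Nat.card {g : N // IsConj g (⟨C.e p, hN⟩ : N)}
      = (Finset.univ.filter fun q => C.cls q = C.cls p).card := by
    have hconv : ∀ g : N, IsConj g (⟨C.e p, hN⟩ : N) → ∃ q, C.e q = g ∧ C.cls q = C.cls p := by
      intro g hg
      obtain ⟨c, hc⟩ := isConj_iff.1 hg.symm
      have hgS : (g : G) ∈ S := by
        rw [← hc]; push_cast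
        exact (Subgroup.mem_normalizer_iff.1 c.2 _).1 (C.mem p)
      obtain ⟨q, hq⟩ := C.exists_coord hgS
      exact ⟨q, hq, (C.fus q p).1 (hq ▸ (N.subtype.map_isConj hg))⟩
    rw [← Fintype.card_subtype, ← Nat.card_eq_fintype_card]
    refine Nat.card_congr (Equiv.ofBijective (fun g => ⟨(hconv g.1 g.2).choose,
      (hconv g.1 g.2).choose_spec.2⟩) ⟨fun g g' e => ?_, fun q => ?_⟩)
    · have e' : C.e (hconv g.1 g.2).choose = C.e (hconv g'.1 g'.2).choose :=
        congrArg (fun q => C.e q.1) e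
      rw [(hconv g.1 g.2).choose_spec.1, (hconv g'.1 g'.2).choose_spec.1] at e'
      exact Subtype.ext (Subtype.ext e')
    · obtain ⟨c, hc⟩ := isConj_iff.1 ((C.fus p q.1).2 q.2.symm)
      have hcN : c ∈ N := C.hyp.mem_normalizer_of_conj (C.mem p) (C.e_ne_one hp) (hc ▸ C.mem q.1)
      let g0 : {g : N // IsConj g (⟨C.e p, hN⟩ : N)} := ⟨⟨C.e q.1, Subgroup.le_normalizer (C.mem q.1)⟩,
        (isConj_iff.2 ⟨⟨c, hcN⟩, Subtype.ext hc⟩).symm⟩
      exact ⟨g0, Subtype.ext (C.inj (hconv g0.1 g0.2).choose_spec.1)⟩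
  have h2 : Nat.card (Subgroup.centralizer ({(⟨C.e p, hN⟩ : N)} : Set N)) = C.cent p := by
    refine Nat.card_congr
      { toFun := fun c => ⟨(c.1 : G), Subgroup.mem_centralizer_singleton_iff.2
          (congrArg Subtype.val (Subgroup.mem_centralizer_singleton_iff.1 c.2))⟩
        invFun := fun c => ⟨⟨c.1, C.hyp.loc _ (C.mem p) (C.e_ne_one hp) c.2⟩,
          Subgroup.mem_centralizer_singleton_iff.2
            (Subtype.ext (Subgroup.mem_centralizer_singleton_iff.1 c.2))⟩
        left_inv := fun c => rfl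
        right_inv := fun c => rfl }
  rw [← hc, h1, h2, mul_comm]

/-- The number of pairs in `S`. -/
def cnt (p q r : Pl) : ℕ :=
  (Finset.univ.filter fun a => C.cls a = C.cls p ∧ C.cls (r - a) = C.cls q).card

/-- The structure constant equations. -/
theorem triple (p q r : Pl) (hr : r ≠ 0) (hne : ¬ (C.cls p = C.cls q ∧ C.cls p = C.cls r)) :
    (∑ χ : IrrCharacter G, (C.val χ p : ℚ) * C.val χ q * C.val χ r / (charDegree (χ : G → ℂ) : ℚ))
      * (Nat.card G : ℚ) = (C.cnt p q r : ℚ) * C.cent p * C.cent q := by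
  have h := Cfsg.Agent.S0840.result (C.e p) (C.e q) (C.e r)
  have hcount : Nat.card {x : G × G // IsConj (C.e p) x.1 ∧ IsConj (C.e q) x.2 ∧ x.1 * x.2 = C.e r}
      = C.cnt p q r := by
    rw [cnt, ← Fintype.card_subtype, ← Nat.card_eq_fintype_card]
    symm
    refine Nat.card_congr (Equiv.ofBijective (fun a => ⟨(C.e a.1, C.e (r - a.1)),
      (C.fus _ _).2 a.2.1.symm, (C.fus _ _).2 a.2.2.symm, by rw [← C.hom, add_sub_cancel]⟩)
      ⟨fun a a' e => Subtype.ext (C.inj (congrArg (fun x => x.1.1) e)), ?_⟩)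
    rintro ⟨⟨u, v⟩, hu, hv, huv⟩
    dsimp only at hu hv huv
    obtain ⟨c, hc⟩ := isConj_iff.1 hu
    obtain ⟨c', hc'⟩ := isConj_iff.1 hv
    have hu3 : u ^ 3 = 1 := by rw [← hc, conj_pow, C.pow_three, mul_one, mul_inv_cancel]
    have hv3 : v ^ 3 = 1 := by rw [← hc', conj_pow, C.pow_three, mul_one, mul_inv_cancel]
    obtain ⟨huS, -⟩ := C.hyp.mem_of_mul_mem hu3 hv3 (by rw [huv]; exact C.mem r)
      (by rw [huv]; exact C.e_ne_one hr) (by
        rintro ⟨h1, h2⟩
        refine hne ⟨(C.fus p q).1 ((hu.trans h1).trans hv.symm), ?_⟩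
        rw [huv, ← C.e_neg] at h2
        rw [(C.fus p (-r)).1 (hu.trans h2), C.real])
    obtain ⟨a, ha⟩ := C.exists_coord huS
    have hv' : v = C.e (r - a) := by
      refine mul_left_cancel (a := u) ?_
      rw [huv, ← ha, ← C.hom, add_sub_cancel]
    refine ⟨⟨a, (C.fus a p).1 (ha ▸ hu.symm), (C.fus (r - a) q).1 (hv' ▸ hv.symm)⟩, Subtype.ext ?_⟩
    exact Prod.ext ha hv'.symm
  rw [hcount, finsum_eq_sum_of_fintype] at h
  simp only [C.val_spec, map_intCast, Blocks.irr_one_eq] at h
  have hsize : ∀ a : Pl, (Nat.card {x : G // IsConj (C.e a) x} : ℂ) * (C.cent a : ℂ) = Nat.card G := by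
    intro a
    rw [← Nat.cast_mul, Nat.cast_inj, ← card_conjugates_mul (C.e a)]
    congr 1
    exact Nat.card_congr (Equiv.subtypeEquivRight fun x => isConj_comm)
  have hGne : (Nat.card G : ℂ) ≠ 0 := card_ne_zero
  have key : (∑ χ : IrrCharacter G, (C.val χ p : ℂ) * C.val χ q * C.val χ r
        / (charDegree (χ : G → ℂ) : ℂ)) * (Nat.card G : ℂ)
      = (C.cnt p q r : ℂ) * C.cent p * C.cent q := by
    push_cast
    rw [h]
    have e1 := hsize p
    have e2 := hsize q
    set P := (Nat.card {x : G // IsConj (C.e p) x} : ℂ)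
    set Q := (Nat.card {x : G // IsConj (C.e q) x} : ℂ)
    set Θ := ∑ χ : IrrCharacter G, (C.val χ p : ℂ) * C.val χ q * C.val χ r
        / (charDegree (χ : G → ℂ) : ℂ)
    field_simp
    linear_combination (-Θ) * (Nat.card G : ℂ) * e1 + (-Θ) * (P * (C.cent p : ℂ)) * e2
  apply (Rat.cast_injective (α := ℂ))
  push_cast
  exact key

omit [DecidableEq ι] in
include C in
/-- Sylow counting: the index of the normaliser is congruent to one modulo nine. -/
theorem index_mod :
    ∃ k : ℕ, Nat.card G = Nat.card (Subgroup.normalizer (S : Set G)) * k ∧ k % 9 = 1 := by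
  set N := Subgroup.normalizer (S : Set G)
  refine ⟨N.index, (Subgroup.card_mul_index N).symm, ?_⟩
  let X := {x : G ⧸ N // x ≠ ((1 : G) : G ⧸ N)}
  have hsm : ∀ (s : S) (x : X), (s : G) • x.1 ≠ ((1 : G) : G ⧸ N) := by
    intro s x h
    refine x.2 ?_
    rw [← inv_smul_smul (s : G) x.1, h]
    show ((((s : G)⁻¹) * 1 : G) : G ⧸ N) = _
    rw [mul_one, QuotientGroup.eq, inv_inv, mul_one]
    exact Subgroup.le_normalizer s.2
  letI : MulAction S X :=
    { smul := fun s x => ⟨(s : G) • x.1, hsm s x⟩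
      one_smul := fun x => Subtype.ext (one_smul G x.1)
      mul_smul := fun s t x => Subtype.ext (mul_smul (s : G) (t : G) x.1) }
  have hfree : ∀ (x : X) (s : S), s • x = x → s = 1 := by
    intro x s hsx
    obtain ⟨g, hg⟩ := QuotientGroup.mk_surjective x.1
    have h1 : (s : G) • x.1 = x.1 := congrArg Subtype.val hsx
    rw [← hg] at h1
    have h2 : g⁻¹ * (s : G) * g ∈ N := by
      have : ((((s : G) * g) : G) : G ⧸ N) = (g : G ⧸ N) := h1
      rw [eq_comm, QuotientGroup.eq] at this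
      rwa [mul_assoc]
    by_contra hs1
    have hsG : (s : G) ≠ 1 := fun h => hs1 (Subtype.ext h)
    have h3 : g⁻¹ * (s : G) * g ∈ S := C.hyp.mem_of_normalizer (k := 1) h2 (by
      rw [pow_one]
      have := conj_pow (a := g⁻¹) (b := (s : G)) (i := 3)
      rw [inv_inv, C.hyp.exp3 _ s.2, mul_one, inv_mul_cancel] at this
      exact this)
    have hgN := C.hyp.mem_normalizer_of_conj (g := g) h3
      (fun e => hsG (by
        have := congrArg (fun z => g * z * g⁻¹) e
        simpa [mul_assoc] using this))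
      (by rw [show g * (g⁻¹ * (s : G) * g) * g⁻¹ = (s : G) by group]; exact s.2)
    refine x.2 ?_
    rw [← hg, QuotientGroup.eq, mul_one]
    exact inv_mem hgN
  obtain ⟨β, hβ, hcard⟩ := CentralTI.exists_mul_of_free hfree (fun _ => (1 : ℂ)) (fun _ _ => rfl)
    (fun _ => isIntegral_one)
  rw [Finset.sum_const, nsmul_eq_mul, mul_one, C.hyp.card9, Finset.card_univ] at hcard
  have hX : Fintype.card X + 1 = N.index := by
    have := Fintype.card_subtype_compl (fun x : G ⧸ N => x = ((1 : G) : G ⧸ N))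
    rw [Fintype.card_subtype_eq] at this
    rw [Subgroup.index, Nat.card_eq_fintype_card, ← Nat.sub_add_cancel
      (Fintype.card_pos (α := G ⧸ N)), ← this]
  obtain ⟨z, hz⟩ := exists_int_of_isIntegral_rat hβ (q := (Fintype.card X : ℚ) / 9) (by
    push_cast; rw [hcard]; push_cast; ring)
  have h9 : ((Fintype.card X : ℤ) : ℂ) = ((9 * z : ℤ) : ℂ) := by
    push_cast; rw [hcard, ← hz]; push_cast; ring
  have h9' : (Fintype.card X : ℤ) = 9 * z := by exact_mod_cast h9
  omega

theorem deg_sq_le (χ : IrrCharacter G) : charDegree (χ : G → ℂ) ^ 2 ≤ Nat.card G := by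
  have h := sum_sq_apply_one (G := G)
  simp only [Blocks.irr_one_eq] at h
  have h' : ∑ ψ : IrrCharacter G, charDegree (ψ : G → ℂ) ^ 2 = Nat.card G := by exact_mod_cast h
  rw [← h']
  exact Finset.single_le_sum (f := fun ψ : IrrCharacter G => charDegree (ψ : G → ℂ) ^ 2)
    (fun _ _ => Nat.zero_le _) (Finset.mem_univ χ)

end Coord

end CfsgLib.Char.SylowNine
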