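import Cfsg.Agent.Lib.Char.SylowNine.Dihedral
import Cfsg.Agent.Lib.PGroup.AltAut
import Cfsg.Agent.S0497

/-!
# Recognition of the symmetric group of degree six from a dihedral automizer

The minimal normal subgroup is simple of order 360, every element of the group preserves its two classes of
elements of order three, and so the group embeds in the symmetric group of degree six.
-/

set_option autoImplicit false

open scoped Classical

namespace CfsgLib.Char.SylowNine

variable {G : Type*} [Group G] [Fintype G] {S : Subgroup G}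
  {φ : ↥(Subgroup.normalizer (S : Set G)) →* DihedralGroup 4}

theorem dihedral_cases : ∀ d t : DihedralGroup 4, t * t ≠ 1 →
    (d = 1 ∨ d = t ∨ d = t * t ∨ d = t * (t * t)) ∨ (d * d = 1 ∧ d * t * d * t = 1) := by decide

theorem reflection_weight : ∀ u v : Pl, (∀ p, lin u v (lin u v p) = p) →
    (∀ p, lin u v (turn (lin u v (turn p))) = p) →
    ∀ p, Coord.clsWeight (lin u v p) = Coord.clsWeight p := by decide +kernel

theorem weight_orbit : ∀ p q : Pl, Coord.clsWeight p = Coord.clsWeight q →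
    p = q ∨ turn p = q ∨ turn (turn p) = q ∨ turn (turn (turn p)) = q := by decide +kernel

theorem turn_weight : ∀ p : Pl, Coord.clsWeight (turn p) = Coord.clsWeight p := by decide

theorem Dih.maps_eq (D : Dih S φ) {a b : G} (ha : a ∈ S) (hb : b ∈ S) (ha1 : a ≠ 1)
    (hab : b ∉ Subgroup.zpowers a) {y z : ↥(Subgroup.normalizer (S : Set G))} (hyz : φ y = φ z)
    {m m' : Pl → Pl} (hm : Acts a b (y : G) m) (hm' : Acts a b (z : G) m') : ∀ p, m p = m' p := by
  intro p
  have hS : (z : G)⁻¹ * y ∈ S := by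
    have : φ (z⁻¹ * y) = 1 := by rw [map_mul, map_inv, hyz, inv_mul_cancel]
    exact (D.ker _).1 this
  refine coords_inj D.hyp ha hb ha1 hab ?_
  rw [← hm p, ← hm' p]
  have h := (D.hyp.comm hS (coords_mem a b ha hb p)).eq
  calc (y : G) * coords a b p * (y : G)⁻¹
      = z * ((z : G)⁻¹ * y * coords a b p) * ((z : G)⁻¹ * y)⁻¹ * (z : G)⁻¹ := by group
    _ = z * coords a b p * (z : G)⁻¹ := by rw [h]; group

theorem Dih.recog (D : Dih S φ) (hSn : ¬ S.Normal) : Nonempty (G ≃* Equiv.Perm (Fin 6)) := by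
  have h := D.hyp
  haveI : Fact (Nat.Prime 3) := ⟨Nat.prime_three⟩
  obtain ⟨a₀, ha₀, ha₀1⟩ := h.exists_ne_one
  have htop : (⊤ : Subgroup G) ≠ ⊥ := fun e => ha₀1 (Subgroup.mem_bot.1 (e ▸ Subgroup.mem_top a₀))
  obtain ⟨M, hMn, hM0, -, hmin⟩ := Solvable.Basic.exists_minimal_normal_le (H := (⊤ : Subgroup G)) htop
  haveI := hMn
  have h3M : 3 ∣ Nat.card M := by
    by_contra h3
    refine hM0 (eq_bot_of_coprime h D.cent (fun s _ => ?_) h3)
    rw [Subgroup.normalizer_eq_top]
    trivial
  have hSM : S ≤ M := D.le_of_normal h3M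
  haveI := D.simple_of_minimal hSn hSM hmin
  obtain ⟨hM360, hNM, x, hx, hxx, hx4⟩ := D.card_minimal hSn hSM
  have hC : Subgroup.centralizer (M : Set G) = ⊥ := by
    haveI : (Subgroup.centralizer (M : Set G)).Normal := inferInstance
    have hle : Subgroup.centralizer (M : Set G) ≤ M :=
      ((Subgroup.centralizer_le (show (S : Set G) ⊆ M from hSM)).trans D.cent).trans hSM
    refine (hmin _ inferInstance hle).resolve_right fun e => ?_
    have hSS : M ≤ S := e.ge.trans ((Subgroup.centralizer_le (show (S : Set G) ⊆ M from hSM)).trans D.cent)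
    exact hSn ((le_antisymm hSM hSS) ▸ hMn)
  have hsup : Subgroup.normalizer (S : Set G) ⊔ M = ⊤ := by
    have := Sylow.normalizer_sup_eq_top' (N := M) h.sylow hSM
    exact this
  have hG720 : Nat.card G = 720 := by
    have h1 : M.index = M.relIndex (Subgroup.normalizer (S : Set G)) := by
      rw [← Subgroup.relIndex_top_right, ← hsup, Subgroup.relIndex_sup_right]
    have h2 : Nat.card ↥(Subgroup.normalizer (S : Set G) ⊓ M) * M.relIndex (Subgroup.normalizer (S : Set G))
        = 72 := by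
      rw [← D.card_normalizer, Subgroup.relIndex,
        ← Subgroup.card_mul_index (M.subgroupOf (Subgroup.normalizer (S : Set G)))]
      congr 1
      refine (Nat.card_congr (Subgroup.subgroupOfEquivOfLe (inf_le_left)).toEquiv).symm.trans ?_
      rw [Subgroup.inf_subgroupOf_left]
    rw [hNM, ← h1] at h2
    rw [← Subgroup.card_mul_index M, hM360]
    omega
  obtain ⟨e⟩ := Cfsg.Agent.S0497.result hM360
  have hinv := square_inverts h D.cent (Subgroup.mem_inf.1 hx).1 hxx hx4
  obtain ⟨a, b, ha, hb, ha1, hab, hact⟩ := exists_turn_basis h (Subgroup.mem_inf.1 hx).1 hinv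
  let x' : ↥(Subgroup.normalizer (S : Set G)) := ⟨x, (Subgroup.mem_inf.1 hx).1⟩
  have hx'2 : φ x' * φ x' ≠ 1 := by
    rw [← map_mul]; exact fun e' => hxx ((D.ker (x' * x')).1 e')
  -- the normaliser preserves weights
  have hweight : ∀ y ∈ Subgroup.normalizer (S : Set G), ∀ p, ∃ q, y * coords a b p * y⁻¹ = coords a b q ∧
      Coord.clsWeight q = Coord.clsWeight p := by
    intro y hy p
    obtain ⟨u, v, hm, -, -⟩ := exists_lin h ha hb ha1 hab hy
    refine ⟨lin u v p, hm p, ?_⟩
    have hx1 : Acts a b ((x' : ↥(Subgroup.normalizer (S : Set G))) : G) turn := hact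
    rcases dihedral_cases (φ ⟨y, hy⟩) (φ x') hx'2 with (e' | e' | e' | e') | ⟨e1, e2⟩
    · rw [D.maps_eq ha hb ha1 hab (y := ⟨y, hy⟩) (z := 1) (by rw [e', map_one]) hm acts_one p]
      rfl
    · rw [D.maps_eq ha hb ha1 hab (y := ⟨y, hy⟩) (z := x') e' hm hx1 p, turn_weight]
    · rw [D.maps_eq ha hb ha1 hab (y := ⟨y, hy⟩) (z := x' * x') (by rw [e', map_mul]) hm
        (hx1.mul hx1) p, Function.comp_apply, turn_weight, turn_weight]
    · rw [D.maps_eq ha hb ha1 hab (y := ⟨y, hy⟩) (z := x' * (x' * x')) (by rw [e', map_mul, map_mul]) hm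
        (hx1.mul (hx1.mul hx1)) p, Function.comp_apply, Function.comp_apply, turn_weight, turn_weight,
        turn_weight]
    · refine reflection_weight u v (fun q => ?_) (fun q => ?_) p
      · exact D.maps_eq ha hb ha1 hab (y := ⟨y, hy⟩ * ⟨y, hy⟩) (z := 1) (by rw [map_mul, e1, map_one])
          (hm.mul hm) acts_one q
      · exact D.maps_eq ha hb ha1 hab (y := ⟨y, hy⟩ * x' * ⟨y, hy⟩ * x') (z := 1)
          (by rw [map_mul, map_mul, map_mul, e2, map_one])
          (((hm.mul hx1).mul hm).mul hx1) acts_one q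
  -- every element of `G` preserves the classes of elements of order three
  have hclass : ∀ (g : G) (t : M), orderOf t = 3 → IsConj t (MulAut.conjNormal g t) := by
    intro g t ht
    obtain ⟨c, hc⟩ := (h.restrict hSM).exists_conj_mem (H := Subgroup.zpowers t)
      (IsPGroup.of_card (n := 1) (by rw [Nat.card_zpowers, ht, pow_one]))
    set s := c * t * c⁻¹ with hs
    have hsS : (s : G) ∈ S := hc t (Subgroup.mem_zpowers t)
    have hts : IsConj t s := isConj_iff.2 ⟨c, hs.symm⟩
    refine hts.trans (IsConj.trans ?_ ((MulAut.conjNormal g : MulAut M).toMonoidHom.map_isConj hts).symm)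
    have hg : g ∈ Subgroup.normalizer (S : Set G) ⊔ M := hsup ▸ Subgroup.mem_top g
    rw [sup_comm] at hg
    obtain ⟨m, hm, n, hn, rfl⟩ := Subgroup.mem_sup_of_normal_left.1 hg
    obtain ⟨p, hp⟩ := exists_coords h ha hb ha1 hab hsS
    obtain ⟨q, hq, hqw⟩ := hweight n hn p
    obtain ⟨z, hzM, hz⟩ : ∃ z ∈ M, z * coords a b p * z⁻¹ = coords a b q := by
      rcases weight_orbit p q hqw.symm with e' | e' | e' | e'
      · exact ⟨1, one_mem _, by rw [← e']; simp⟩
      · exact ⟨x, (Subgroup.mem_inf.1 hx).2, by rw [hact p, e']⟩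
      · exact ⟨x * x, mul_mem (Subgroup.mem_inf.1 hx).2 (Subgroup.mem_inf.1 hx).2, by
          rw [hact.mul hact p, Function.comp_apply, e']⟩
      · exact ⟨x * (x * x), mul_mem (Subgroup.mem_inf.1 hx).2
          (mul_mem (Subgroup.mem_inf.1 hx).2 (Subgroup.mem_inf.1 hx).2), by
          rw [hact.mul (hact.mul hact) p, Function.comp_apply, Function.comp_apply, e']⟩
    refine isConj_iff.2 ⟨⟨m, hm⟩ * ⟨z, hzM⟩, Subtype.ext ?_⟩
    show m * z * (s : G) * (m * z)⁻¹ = ((MulAut.conjNormal (m * n) s : M) : G)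
    rw [MulAut.conjNormal_apply, ← hp,
      show m * z * coords a b p * (m * z)⁻¹ = m * (z * coords a b p * z⁻¹) * m⁻¹ by group, hz, ← hq]
    group
  let ψ : G →* MulAut ↥(alternatingGroup (Fin 6)) :=
    (MulAut.congr e).toMonoidHom.comp (MulAut.conjNormal (H := M))
  have hψ : ∀ g u, ψ g u = e (MulAut.conjNormal g (e.symm u)) := fun g u => rfl
  have hthree : ∀ g, ∀ u : ↥(alternatingGroup (Fin 6)), (u : Equiv.Perm (Fin 6)).IsThreeCycle →
      ((ψ g u : ↥(alternatingGroup (Fin 6))) : Equiv.Perm (Fin 6)).IsThreeCycle := by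
    intro g u hu
    have ho : orderOf (e.symm u) = 3 := by
      rw [MulEquiv.orderOf_eq, ← Subgroup.orderOf_coe, hu.orderOf]
    obtain ⟨c, hc⟩ := isConj_iff.1 ((e.toMonoidHom.map_isConj (hclass g _ ho)))
    simp only [MulEquiv.coe_toMonoidHom, MulEquiv.apply_symm_apply] at hc
    rw [hψ, ← hc]
    rw [Equiv.Perm.IsThreeCycle] at hu ⊢
    push_cast
    rw [Equiv.Perm.cycleType_conj, hu]
  choose σ hσ using fun g => PGroup.AltAut.exists_conjNormal 6 (by norm_num) (ψ g) (hthree g)
  have hinjc := PGroup.AltAut.conjNormal_injective 6 (by norm_num)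
  let f : G →* Equiv.Perm (Fin 6) := MonoidHom.mk' σ fun g g' => hinjc (by
    rw [map_mul, hσ, hσ, hσ, map_mul])
  have hf : Function.Injective f := by
    refine (injective_iff_map_eq_one f).2 fun g hg => ?_
    have h1 : ψ g = 1 := by rw [← hσ g, show σ g = 1 from hg, map_one]
    refine Subgroup.mem_bot.1 (hC ▸ Subgroup.mem_centralizer_iff.2 fun y hy => ?_)
    have h2 := congrArg (fun A : MulAut ↥(alternatingGroup (Fin 6)) => A (e ⟨y, hy⟩)) h1
    simp only [hψ, MulEquiv.symm_apply_apply, MulAut.one_apply, e.injective.eq_iff] at h2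
    have h3 : g * y * g⁻¹ = y := by simpa using congrArg Subtype.val h2
    exact (mul_inv_eq_iff_eq_mul.1 h3).symm
  exact ⟨MulEquiv.ofBijective f ((Fintype.bijective_iff_injective_and_card f).2 ⟨hf, by
    rw [← Nat.card_eq_fintype_card, ← Nat.card_eq_fintype_card, hG720, Nat.card_perm, Nat.card_fin]
    decide⟩)⟩

end CfsgLib.Char.SylowNine
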