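import Cfsg.Agent.Lib.Char.SylowNine.Setup
import Cfsg.Agent.Lib.SmallGroups.SimpleTools

/-!
# Self-centralising elements of order three in a simple group
-/

set_option autoImplicit false

open scoped Classical

namespace CfsgLib.Char.SylowNine

variable {G : Type*} [Group G] [Fintype G] {S : Subgroup G}

/-- An element outside `S` whose square is inside inverts `S`. -/
theorem inverts_of_sq_mem (h : Hyp S) (hcent : ∀ s ∈ S, s ≠ 1 → Subgroup.centralizer ({s} : Set G) = S)
    {y : G} (hy : y ∈ Subgroup.normalizer (S : Set G)) (hyS : y ∉ S) (hy2 : y * y ∈ S) :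
    ∀ s ∈ S, y * s * y⁻¹ = s⁻¹ := by
  intro s hs
  by_contra hne
  have hu : s * (y * s * y⁻¹) ∈ S := mul_mem hs (h.conj_mem hy hs)
  have hu1 : s * (y * s * y⁻¹) ≠ 1 := fun e => hne (eq_inv_of_mul_eq_one_right e)
  refine hyS ?_
  rw [← hcent _ hu hu1, Subgroup.mem_centralizer_singleton_iff]
  have hys : y * (y * s * y⁻¹) * y⁻¹ = s := by
    rw [show y * (y * s * y⁻¹) * y⁻¹ = (y * y) * s * (y * y)⁻¹ by group, (h.comm hy2 hs).eq,
      mul_inv_cancel_right]
  have hfix : y * (s * (y * s * y⁻¹)) * y⁻¹ = s * (y * s * y⁻¹) := by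
    rw [show y * (s * (y * s * y⁻¹)) * y⁻¹ = (y * s * y⁻¹) * (y * (y * s * y⁻¹) * y⁻¹) by group, hys,
      (h.comm (h.conj_mem hy hs) hs).eq]
  exact mul_inv_eq_iff_eq_mul.1 hfix

theorem card_eq_360 [IsSimpleGroup G] (h : Hyp S)
    (hclasses : ∃ a b : G, orderOf a = 3 ∧ orderOf b = 3 ∧ ∀ g : G, g * a * g⁻¹ ≠ b)
    (hcent : ∀ s ∈ S, s ≠ 1 → Subgroup.centralizer ({s} : Set G) = S) : Nat.card G = 360 := by
  have hS9 := h.card9
  obtain ⟨a, haS, ha1⟩ := h.exists_ne_one
  have hna : ¬ IsMulCommutative G := by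
    refine SmallGroups.SimpleTools.not_comm_of_card fun hp => ?_
    have h9 : Nat.card S ∣ Nat.card G := Subgroup.card_subgroup_dvd_card S
    rw [hS9] at h9
    rcases (Nat.dvd_prime hp).1 h9 with h1 | h1
    · omega
    · rw [← h1] at hp; norm_num at hp
  set N := Subgroup.normalizer (S : Set G) with hN
  have hnn : N ≠ ⊤ := by
    intro e
    have : S.Normal := Subgroup.normalizer_eq_top_iff.1 e
    rcases this.eq_bot_or_eq_top with hb | ht
    · exact ha1 (by rw [hb] at haS; exact Subgroup.mem_bot.1 haS)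
    · exact hna ⟨⟨fun x y => (h.comm (ht ▸ Subgroup.mem_top x) (ht ▸ Subgroup.mem_top y)).eq⟩⟩
  have hmemS : ∀ x ∈ N, x * a * x⁻¹ = a → x ∈ S := by
    intro x _ hx
    rw [← hcent a haS ha1, Subgroup.mem_centralizer_singleton_iff]
    exact mul_inv_eq_iff_eq_mul.1 hx
  set e := (S.subgroupOf N).index with he
  have hNe : Nat.card N = e * 9 := by
    rw [← hS9, ← Nat.card_congr (Subgroup.subgroupOfEquivOfLe (Subgroup.le_normalizer (H := S))).toEquiv]
    exact (Subgroup.index_mul_card _).symm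
  have h3e : ¬ 3 ∣ e := fun hd => h.syl (hd.trans (Subgroup.relIndex_dvd_index_of_le Subgroup.le_normalizer))
  let F : N → {s : S // s ≠ 1} := fun x => ⟨⟨x * a * (x : G)⁻¹, h.conj_mem x.2 haS⟩, fun e => ha1
    (conj_eq_one_iff.1 (congrArg Subtype.val e))⟩
  let F' : N ⧸ S.subgroupOf N → {s : S // s ≠ 1} := Quotient.lift F fun x y hxy => by
    have hxy' : (x⁻¹ * y : N) ∈ S.subgroupOf N := QuotientGroup.leftRel_apply.1 hxy
    refine Subtype.ext (Subtype.ext ?_)
    have hc : (x : G)⁻¹ * y * a = a * ((x : G)⁻¹ * y) := (h.comm hxy' haS).eq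
    show (x : G) * a * (x : G)⁻¹ = y * a * (y : G)⁻¹
    calc (x : G) * a * (x : G)⁻¹ = x * (a * ((x : G)⁻¹ * y)) * (y : G)⁻¹ := by group
      _ = x * ((x : G)⁻¹ * y * a) * (y : G)⁻¹ := by rw [hc]
      _ = y * a * (y : G)⁻¹ := by group
  have hinj : Function.Injective F' := by
    intro u v
    refine Quotient.inductionOn₂ u v fun x y hxy => ?_
    refine Quotient.sound (QuotientGroup.leftRel_apply.2 ?_)
    have e' : (x : G) * a * (x : G)⁻¹ = y * a * (y : G)⁻¹ := congrArg (fun t => ((t.1 : S) : G)) hxy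
    exact hmemS _ (mul_mem (inv_mem x.2) y.2) (by
      calc ((x : G)⁻¹ * y) * a * ((x : G)⁻¹ * y)⁻¹ = (x : G)⁻¹ * (y * a * (y : G)⁻¹) * x := by group
        _ = a := by rw [← e']; group)
  have h8 : Nat.card {s : S // s ≠ 1} = 8 := by
    rw [Nat.card_eq_fintype_card, Fintype.card_subtype_compl, Fintype.card_subtype_eq,
      ← Nat.card_eq_fintype_card, hS9]
  have he8 : e ≤ 8 := by rw [← h8, he, Subgroup.index]; exact Nat.card_le_card_of_injective F' hinj
  have hepos : e ≠ 0 := Subgroup.index_ne_zero_of_finite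
  have hprime : ∀ p, p.Prime → ¬ p ∣ 8 → p ≠ 3 → ¬ p ∣ e := by
    intro p hp hp8 hp3 hpe
    haveI : Fact p.Prime := ⟨hp⟩
    obtain ⟨x, hx⟩ := exists_prime_orderOf_dvd_card' (G := N) p (hNe ▸ hpe.mul_right 9)
    let σ : Equiv.Perm {s : S // s ≠ 1} :=
      { toFun := fun s => ⟨⟨x * (s.1 : G) * (x : G)⁻¹, h.conj_mem x.2 s.1.2⟩, fun e => s.2
          (Subtype.ext (conj_eq_one_iff.1 (congrArg Subtype.val e)))⟩
        invFun := fun s => ⟨⟨(x : G)⁻¹ * (s.1 : G) * x, by
          simpa using h.conj_mem (inv_mem x.2) s.1.2⟩, fun e => s.2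
          (Subtype.ext (conj_eq_one_iff (a := (x : G)⁻¹).1 (by rw [inv_inv]; exact congrArg Subtype.val e)))⟩
        left_inv := fun s => Subtype.ext (Subtype.ext (by show _ = (s.1 : G); group))
        right_inv := fun s => Subtype.ext (Subtype.ext (by show _ = (s.1 : G); group)) }
    have hpow : ∀ (n : ℕ) s, (((σ ^ n) s).1 : G) = (x : G) ^ n * (s.1 : G) * ((x : G) ^ n)⁻¹ := by
      intro n
      induction n with
      | zero => intro s; simp
      | succ n ih =>
        intro s
        rw [pow_succ, Equiv.Perm.mul_apply, ih, pow_succ]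
        show (x : G) ^ n * (x * (s.1 : G) * (x : G)⁻¹) * ((x : G) ^ n)⁻¹ = _
        group
    have hxp : (x : G) ^ p = 1 := by
      have : x ^ p = 1 := by rw [← hx]; exact pow_orderOf_eq_one x
      exact congrArg Subtype.val this
    obtain ⟨s, hs⟩ := Equiv.Perm.exists_fixed_point_of_prime (p := p) (n := 1) (σ := σ)
      (by rw [← Nat.card_eq_fintype_card, h8]; exact hp8)
      (Equiv.ext fun s => Subtype.ext (Subtype.ext (by
        rw [pow_one, hpow, hxp]; simp)))
    have hxS : (x : G) ∈ S := by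
      rw [← hcent _ s.1.2 (fun e => s.2 (Subtype.ext e)), Subgroup.mem_centralizer_singleton_iff]
      exact mul_inv_eq_iff_eq_mul.1 (congrArg (fun t => ((t.1 : S) : G)) hs)
    have h3 := orderOf_dvd_of_pow_eq_one (h.exp3 _ hxS)
    rw [orderOf_submonoid, hx] at h3
    exact hp3 ((Nat.prime_dvd_prime_iff_eq hp Nat.prime_three).1 h3)
  have h5 := hprime 5 (by norm_num) (by norm_num) (by norm_num)
  have h7 := hprime 7 (by norm_num) (by norm_num) (by norm_num)
  have hxinv : ∀ y : N, orderOf y = 2 → ∀ s ∈ S, (y : G) * s * (y : G)⁻¹ = s⁻¹ := by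
    intro y hy
    have hy2 : (y : G) * y = 1 := by
      have := pow_orderOf_eq_one y
      rw [hy, pow_two] at this
      exact congrArg Subtype.val this
    refine inverts_of_sq_mem h hcent y.2 (fun hyS => ?_) (hy2 ▸ one_mem S)
    have h3 := orderOf_dvd_of_pow_eq_one (h.exp3 _ hyS)
    rw [orderOf_submonoid, hy] at h3
    norm_num at h3
  rcases (show e = 1 ∨ e = 2 ∨ e = 4 ∨ e = 8 by omega) with h1 | h1 | h1 | h1
  · exfalso
    haveI : Fact (Nat.Prime 3) := ⟨Nat.prime_three⟩
    refine SmallGroups.SimpleTools.not_normalizer_le hna ((hS9 ▸ by norm_num : (3 : ℕ) ∣ Nat.card S).trans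
      (Subgroup.card_subgroup_dvd_card S)) h.sylow ?_
    rw [h.coe_sylow]
    intro x hx
    have hxS : (⟨x, hx⟩ : N) ∈ S.subgroupOf N := by rw [Subgroup.index_eq_one.1 (he.symm.trans h1)]; trivial
    exact Subgroup.mem_centralizer_iff.2 fun s hs => (h.comm hs hxS).eq
  · exfalso
    haveI : Fact (Nat.Prime 2) := ⟨Nat.prime_two⟩
    obtain ⟨y, hy⟩ := exists_prime_orderOf_dvd_card' (G := N) 2 (by rw [hNe, h1]; norm_num)
    exact hnn (inversion_top h (by rw [hNe, h1]) y.2 (hxinv y hy))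
  · obtain ⟨x, hx⟩ : ∃ x : N, (x : G) * x ∉ S := by
      by_contra hno
      push Not at hno
      haveI : Fact (Nat.Prime 2) := ⟨Nat.prime_two⟩
      obtain ⟨y, hy⟩ := exists_prime_orderOf_dvd_card' (G := N) 2 (by rw [hNe, h1]; norm_num)
      have hle : Nat.card N ≤ 2 * Nat.card S := by
        let Φ : Bool × S → N := fun t => if t.1 then y * ⟨t.2, Subgroup.le_normalizer t.2.2⟩
          else ⟨t.2, Subgroup.le_normalizer t.2.2⟩
        refine (Nat.card_le_card_of_surjective Φ fun z => ?_).trans (by rw [Nat.card_prod]; simp)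
        by_cases hzS : (z : G) ∈ S
        · exact ⟨(false, ⟨z, hzS⟩), by simp [Φ]⟩
        · have hmem : (y : G)⁻¹ * z ∈ S := by
            refine hmemS _ (mul_mem (inv_mem y.2) z.2) ?_
            have e1 := hxinv y hy a haS
            have e2 := inverts_of_sq_mem h hcent z.2 hzS (hno z) a haS
            calc ((y : G)⁻¹ * z) * a * ((y : G)⁻¹ * z)⁻¹ = (y : G)⁻¹ * (z * a * (z : G)⁻¹) * y := by group
              _ = (y : G)⁻¹ * (y * a * (y : G)⁻¹) * y := by rw [e1, e2]
              _ = a := by group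
          exact ⟨(true, ⟨_, hmem⟩), Subtype.ext (by simp [Φ])⟩
      rw [hNe, h1, hS9] at hle
      omega
    haveI : (S.subgroupOf N).Normal := Subgroup.normal_in_normalizer
    have h4 : x ^ 4 ∈ S.subgroupOf N := by
      have := Subgroup.pow_index_mem (S.subgroupOf N) x
      rwa [← he, h1] at this
    have h4' : (x : G) * x * (x * x) ∈ S := by
      rw [show (x : G) * x * (x * x) = ((x ^ 4 : N) : G) by
        rw [SubmonoidClass.coe_pow]; simp only [pow_succ, pow_zero, one_mul, mul_assoc]]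
      exact h4
    exact cyclic_order hna h (by rw [hNe, h1]) hnn x.2
      (inverts_of_sq_mem h hcent (mul_mem x.2 x.2) hx h4')
  · exfalso
    have hsurj : Function.Surjective F' :=
      ((Fintype.bijective_iff_injective_and_card F').2 ⟨hinj, by
        rw [← Nat.card_eq_fintype_card, ← Nat.card_eq_fintype_card, h8, ← h1, he, Subgroup.index]⟩).2
    have hconj : ∀ c : G, orderOf c = 3 → IsConj a c := by
      intro c hc
      haveI : Fact (Nat.Prime 3) := ⟨Nat.prime_three⟩
      obtain ⟨g, hg⟩ := h.exists_conj_mem (H := Subgroup.zpowers c)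
        (IsPGroup.of_card (n := 1) (by rw [Nat.card_zpowers, hc, pow_one]))
      have hgS := hg c (Subgroup.mem_zpowers c)
      have hne : g * c * g⁻¹ ≠ 1 := fun e => by
        rw [conj_eq_one_iff.1 e, orderOf_one] at hc; omega
      obtain ⟨u, hu⟩ := hsurj ⟨⟨_, hgS⟩, fun e => hne (congrArg Subtype.val e)⟩
      revert hu
      refine Quotient.inductionOn u fun x hu => ?_
      have e' : (x : G) * a * (x : G)⁻¹ = g * c * g⁻¹ := congrArg (fun t => ((t.1 : S) : G)) hu
      exact IsConj.trans (isConj_iff.2 ⟨(x : G), e'⟩) (isConj_iff.2 ⟨g, rfl⟩ : IsConj c (g * c * g⁻¹)).symm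
    obtain ⟨c, d, hc, hd, hcd⟩ := hclasses
    obtain ⟨g, hg⟩ := isConj_iff.1 ((hconj c hc).symm.trans (hconj d hd))
    exact hcd g hg

end CfsgLib.Char.SylowNine
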