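import Cfsg.Agent.Lib.Char.SylowNine.Cases
import Cfsg.Agent.Lib.Char.SylowNine.Cyclic

/-!
# Coordinates adapted to the action of the normaliser

The normaliser is described by a finite set of maps of the coordinate plane which are realised by
conjugation and are as many as the index of `S` allows.
-/

set_option autoImplicit false

open scoped Classical

namespace CfsgLib.Char.SylowNine

variable {G : Type*} [Group G] [Fintype G] {S : Subgroup G}

/-- The coordinates given by two generators. -/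
def coords (a b : G) (p : Pl) : G := a ^ p.1.val * b ^ p.2.val

omit [Fintype G] in
theorem pow_zmod {a : G} (ha : a ^ 3 = 1) (i j : ZMod 3) : a ^ (i + j).val = a ^ i.val * a ^ j.val := by
  rw [← pow_add, ZMod.val_add, ← pow_eq_pow_mod _ ha]

theorem coords_mem (a b : G) (ha : a ∈ S) (hb : b ∈ S) (p : Pl) : coords a b p ∈ S :=
  mul_mem (pow_mem ha _) (pow_mem hb _)

theorem coords_add (h : Hyp S) {a b : G} (ha : a ∈ S) (hb : b ∈ S) (p q : Pl) :
    coords a b (p + q) = coords a b p * coords a b q := by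
  simp only [coords, Prod.fst_add, Prod.snd_add, pow_zmod (h.exp3 a ha), pow_zmod (h.exp3 b hb)]
  exact (Commute.mul_mul_mul_comm (h.comm (pow_mem hb _) (pow_mem ha _)) _ _).symm

theorem coords_inj (h : Hyp S) {a b : G} (ha : a ∈ S) (hb : b ∈ S) (ha1 : a ≠ 1)
    (hab : b ∉ Subgroup.zpowers a) : Function.Injective (coords a b) := by
  have key : ∀ p, coords a b p = 1 → p = 0 := by
    intro p hp
    have h2 : p.2 = 0 := by
      by_contra h2
      refine hab ?_
      have hb2 : b ^ p.2.val ∈ Subgroup.zpowers a := by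
        rw [coords, mul_eq_one_iff_inv_eq] at hp
        exact hp ▸ inv_mem (pow_mem (Subgroup.mem_zpowers a) _)
      have := pow_mem hb2 p.2.val
      rw [← pow_mul, pow_eq_pow_mod _ (h.exp3 b hb),
        show p.2.val * p.2.val % 3 = 1 by revert h2; generalize p.2 = t; revert t; decide, pow_one] at this
      exact this
    have h1 : p.1 = 0 := by
      by_contra h1
      rw [coords, h2, ZMod.val_zero, pow_zero, mul_one] at hp
      have h' : (a ^ p.1.val) ^ p.1.val = 1 := by rw [hp, one_pow]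
      rw [← pow_mul, pow_eq_pow_mod _ (h.exp3 a ha),
        show p.1.val * p.1.val % 3 = 1 by revert h1; generalize p.1 = t; revert t; decide, pow_one] at h'
      exact ha1 h'
    exact Prod.ext h1 h2
  intro p q e
  refine sub_eq_zero.1 (key _ (mul_right_cancel (b := coords a b q) ?_))
  rw [← coords_add h ha hb, sub_add_cancel, one_mul, e]

/-- `g` acts on `S` by the map `m`. -/
def Acts (a b : G) (g : G) (m : Pl → Pl) : Prop := ∀ p, g * coords a b p * g⁻¹ = coords a b (m p)

omit [Fintype G] in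
theorem Acts.mul {a b g g' : G} {m m' : Pl → Pl} (hg : Acts a b g m) (hg' : Acts a b g' m') :
    Acts a b (g * g') (m ∘ m') := fun p => by
  rw [show g * g' * coords a b p * (g * g')⁻¹ = g * (g' * coords a b p * g'⁻¹) * g⁻¹ by group, hg', hg]
  rfl

omit [Fintype G] in
theorem acts_one {a b : G} : Acts a b 1 id := fun p => by simp

omit [Fintype G] in
/-- A map is determined on the two generators. -/
theorem acts_of_gen (h : Hyp S) {a b g a' b' : G} (ha : a ∈ S) (hb : b ∈ S)
    (ha' : g * a * g⁻¹ = a') (hb' : g * b * g⁻¹ = b') {m : Pl → Pl}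
    (hm : ∀ p : Pl, a' ^ p.1.val * b' ^ p.2.val = coords a b (m p)) : Acts a b g m := fun p => by
  rw [← hm, coords, ← ha', ← hb', conj_pow, conj_pow]
  group

/-- Build the coordinate structure. -/
noncomputable def mkCoord {ι : Type} (h : Hyp S) (a b : G) (ha : a ∈ S) (hb : b ∈ S) (ha1 : a ≠ 1)
    (hab : b ∉ Subgroup.zpowers a) (M : List (Pl → Pl)) (cls : Pl → ι)
    (hM : ∀ m ∈ M, ∃ g ∈ Subgroup.normalizer (S : Set G), Acts a b g m)
    (hdist : ∀ i j : Fin M.length, (∀ p, M.get i p = M.get j p) → i = j)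
    (hcard : Nat.card (Subgroup.normalizer (S : Set G)) = M.length * 9)
    (hcls : ∀ p q, (∃ i : Fin M.length, M.get i p = q) ↔ cls p = cls q)
    (hreal : ∀ p, cls (-p) = cls p) : Coord S ι where
  hyp := h
  e := coords a b
  mem := coords_mem a b ha hb
  inj := coords_inj h ha hb ha1 hab
  hom := coords_add h ha hb
  cls := cls
  real := hreal
  fus := by
    intro p q
    set N := Subgroup.normalizer (S : Set G)
    choose g hgN hg using fun i : Fin M.length => hM (M.get i) (List.get_mem M i)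
    let Φ : Fin M.length × S → N := fun x =>
      ⟨g x.1 * x.2, mul_mem (hgN x.1) (Subgroup.le_normalizer x.2.2)⟩
    have hact : ∀ x, Acts a b (Φ x : G) (M.get x.1) := fun x p => by
      show g x.1 * x.2 * coords a b p * (g x.1 * x.2)⁻¹ = _
      rw [show g x.1 * (x.2 : G) * coords a b p * (g x.1 * x.2)⁻¹
          = g x.1 * ((x.2 : G) * coords a b p * (x.2 : G)⁻¹) * (g x.1)⁻¹ by group,
        (h.comm x.2.2 (coords_mem a b ha hb p)).eq, mul_inv_cancel_right]
      exact hg x.1 p
    have hinj : Function.Injective Φ := by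
      intro x y e
      have e1 : x.1 = y.1 := hdist _ _ fun p => coords_inj h ha hb ha1 hab (by
        rw [← hact x p, ← hact y p, e])
      have e2 : g x.1 * (x.2 : G) = g y.1 * (y.2 : G) := congrArg Subtype.val e
      rw [e1] at e2
      exact Prod.ext e1 (Subtype.ext (mul_left_cancel e2))
    have hsurj : Function.Surjective Φ := ((Fintype.bijective_iff_injective_and_card Φ).2 ⟨hinj, by
      rw [Fintype.card_prod, Fintype.card_fin, ← Nat.card_eq_fintype_card, ← Nat.card_eq_fintype_card,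
        h.card9, hcard]⟩).2
    rw [← hcls]
    constructor
    · intro hpq
      by_cases hp : p = 0
      · subst hp
        have e0 : coords a b (0 : Pl) = 1 := by simp [coords]
        rw [e0, isConj_one_right] at hpq
        have hq : q = 0 := coords_inj h ha hb ha1 hab (hpq.trans e0.symm)
        obtain ⟨i, hi⟩ := (hcls 0 0).2 rfl
        exact ⟨i, hi.trans hq.symm⟩
      · obtain ⟨c, hc⟩ := isConj_iff.1 hpq
        have hp1 : coords a b p ≠ 1 := fun e => hp (coords_inj h ha hb ha1 hab (by rw [e]; simp [coords]))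
        have hcN := h.mem_normalizer_of_conj (coords_mem a b ha hb p) hp1
          (hc ▸ coords_mem a b ha hb q)
        obtain ⟨x, hx⟩ := hsurj ⟨c, hcN⟩
        refine ⟨x.1, coords_inj h ha hb ha1 hab ?_⟩
        rw [← hact x p, hx, ← hc]
    · rintro ⟨i, hi⟩
      exact isConj_iff.2 ⟨g i, by rw [hg i p, hi]⟩

/-- Conjugation on a point. -/
abbrev cj (g s : G) : G := g * s * g⁻¹

/-- First sign change. -/
def flip₁ (p : Pl) : Pl := (-p.1, p.2)
/-- Second sign change. -/
def flip₂ (p : Pl) : Pl := (p.1, -p.2)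
/-- Inversion. -/
def flip₀ (p : Pl) : Pl := -p
/-- Quarter turn. -/
def turn (p : Pl) : Pl := (-p.2, p.1)

theorem pow_neg_val {x : G} (hx : x ^ 3 = 1) (i : ZMod 3) : x ^ (-i).val = x⁻¹ ^ i.val := by
  rw [inv_pow]
  refine eq_inv_of_mul_eq_one_left ?_
  rw [← pow_zmod hx, neg_add_cancel, ZMod.val_zero, pow_zero]

theorem Hyp.conj_mem (h : Hyp S) {g s : G} (hg : g ∈ Subgroup.normalizer (S : Set G)) (hs : s ∈ S) :
    g * s * g⁻¹ ∈ S :=
  let _ := h
  (Subgroup.mem_normalizer_iff.1 hg s).1 hs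

theorem Hyp.exists_ne_one (h : Hyp S) : ∃ a ∈ S, a ≠ 1 :=
  Subgroup.ne_bot_iff_exists_ne_one.1 (fun hb => by
    have := h.card9; rw [hb, Subgroup.card_bot] at this; omega) |>.imp' Subtype.val
    (fun a ha => ⟨a.2, fun e => ha (Subtype.ext e)⟩)

theorem Hyp.inv_eq_sq (h : Hyp S) {s : G} (hs : s ∈ S) : s⁻¹ = s * s := by
  refine inv_eq_of_mul_eq_one_left ?_
  have := h.exp3 s hs
  rw [pow_succ, pow_two] at this
  exact this

/-- Klein pattern. -/
theorem klein_top (h : Hyp S) (hC : Subgroup.centralizer (S : Set G) ≤ S)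
    (hN : Nat.card (Subgroup.normalizer (S : Set G)) = 36)
    (hsq : ∀ x ∈ Subgroup.normalizer (S : Set G), x * x ∈ S) : Subgroup.normalizer (S : Set G) = ⊤ := by
  set N := Subgroup.normalizer (S : Set G) with hNdef
  have hid : ∀ {x s : G}, x ∈ N → s ∈ S → cj x (cj x s) = s := by
    intro x s hx hs
    rw [cj, cj, show x * (x * s * x⁻¹) * x⁻¹ = (x * x) * s * (x * x)⁻¹ by group,
      (h.comm (hsq x hx) hs).eq, mul_inv_cancel_right]
  have hcomm : ∀ {x y u : G}, x ∈ N → y ∈ N → u ∈ S → cj x (cj y u) = cj y (cj x u) := by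
    intro x y u hx hy hu
    have h1 := hid (mul_mem hx hy) (h.conj_mem hy (h.conj_mem hx hu))
    have h2 : ∀ v, cj (x * y) v = cj x (cj y v) := fun v => by simp only [cj]; group
    rw [h2, h2] at h1
    have hxu : cj x u ∈ S := h.conj_mem hx hu
    rw [hid hy hxu] at h1
    rw [show cj x (cj x u) = u from hid hx hu] at h1
    exact h1
  have hnotS : ∀ {x}, x ∈ N → x ∉ S → ∃ s ∈ S, cj x s ≠ s := by
    intro x _ hxS
    by_contra hall
    push Not at hall
    exact hxS (hC (Subgroup.mem_centralizer_iff.2 fun s hs => by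
      have := hall s hs
      rw [cj, mul_inv_eq_iff_eq_mul] at this
      exact this.symm))
  -- an element with a fixed point
  have hex : ∀ y ∈ N, (∀ t : S, y ≠ t) → (∀ s ∈ S, cj y s = s⁻¹) → ∀ x ∈ N, x ∉ S → y⁻¹ * x ∉ S →
      ∃ a ∈ S, a ≠ 1 ∧ cj x a = a := by
    intro y hy _ hyinv x hx _ hyx
    by_contra hno
    push Not at hno
    have hxinv : ∀ s ∈ S, cj x s = s⁻¹ := by
      intro s hs
      have hu : s * cj x s ∈ S := mul_mem hs (h.conj_mem hx hs)
      have hfix : cj x (s * cj x s) = s * cj x s := by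
        rw [show cj x (s * cj x s) = cj x s * cj x (cj x s) by simp only [cj]; group, hid hx hs,
          (h.comm (h.conj_mem hx hs) hs).eq]
      by_contra hne
      exact hno _ hu (fun e => hne (eq_inv_of_mul_eq_one_right e)) hfix
    refine hyx (hC (Subgroup.mem_centralizer_iff.2 fun s hs => ?_))
    have e1 := hyinv s hs
    have e2 := hxinv s hs
    simp only [cj] at e1 e2
    have : x * s * x⁻¹ = y * s * y⁻¹ := e2.trans e1.symm
    calc s * (y⁻¹ * x) = y⁻¹ * (y * s * y⁻¹) * x := by group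
      _ = y⁻¹ * (x * s * x⁻¹) * x := by rw [this]
      _ = y⁻¹ * x * s := by group
  have hcS : Nat.card (S.subgroupOf N) = 9 := by
    rw [Nat.card_congr (Subgroup.subgroupOfEquivOfLe Subgroup.le_normalizer).toEquiv, h.card9]
  -- two elements outside, in different cosets
  have hout : ∀ z ∈ N, ∃ x ∈ N, x ∉ S ∧ z⁻¹ * x ∉ S := by
    intro z hz
    by_contra hno
    push Not at hno
    have hle : Nat.card N ≤ 2 * Nat.card S := by
      let F : Bool × S → N := fun t => if t.1 then ⟨z * t.2, mul_mem hz (Subgroup.le_normalizer t.2.2)⟩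
        else ⟨t.2, Subgroup.le_normalizer t.2.2⟩
      refine (Nat.card_le_card_of_surjective F fun x => ?_).trans (by rw [Nat.card_prod]; simp)
      by_cases hxS : (x : G) ∈ S
      · exact ⟨(false, ⟨x, hxS⟩), by simp [F]⟩
      · exact ⟨(true, ⟨z⁻¹ * x, hno x x.2 hxS⟩), by simp [F]⟩
    rw [hN, h.card9] at hle
    omega
  obtain ⟨x0, hx0, hx0S, -⟩ := hout 1 (one_mem N)
  obtain ⟨x1, hx1, hx1S, a, haS, ha1, hfa⟩ : ∃ x ∈ N, x ∉ S ∧ ∃ a ∈ S, a ≠ 1 ∧ cj x a = a := by
    by_cases hinv : ∀ s ∈ S, cj x0 s = s⁻¹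
    · obtain ⟨x, hx, hxS, hxx⟩ := hout x0 hx0
      exact ⟨x, hx, hxS, hex x0 hx0 (fun t e => hx0S (e ▸ t.2)) hinv x hx hxS hxx⟩
    · push Not at hinv
      obtain ⟨s, hs, hne⟩ := hinv
      refine ⟨x0, hx0, hx0S, s * cj x0 s, mul_mem hs (h.conj_mem hx0 hs),
        fun e => hne (eq_inv_of_mul_eq_one_right e), ?_⟩
      rw [show cj x0 (s * cj x0 s) = cj x0 s * cj x0 (cj x0 s) by simp only [cj]; group, hid hx0 hs,
        (h.comm (h.conj_mem hx0 hs) hs).eq]
  obtain ⟨s1, hs1, hs1ne⟩ := hnotS hx1 hx1S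
  set b := s1 * (cj x1 s1)⁻¹ with hbdef
  have hbS : b ∈ S := mul_mem hs1 (inv_mem (h.conj_mem hx1 hs1))
  have hfb : cj x1 b = b⁻¹ := by
    rw [hbdef, show cj x1 (s1 * (cj x1 s1)⁻¹) = cj x1 s1 * (cj x1 (cj x1 s1))⁻¹ by simp only [cj]; group,
      hid hx1 hs1, mul_inv_rev, inv_inv]
  have hb1 : b ≠ 1 := fun e => hs1ne (mul_inv_eq_one.1 e).symm
  have hab : b ∉ Subgroup.zpowers a := by
    rintro ⟨i, hi⟩
    have : cj x1 b = b := by
      rw [← hi]; simp only [cj]
      rw [← conj_zpow]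
      exact congrArg (fun t => t ^ i) hfa
    rw [hfb, h.inv_eq_sq hbS] at this
    exact hb1 (mul_eq_left.1 this)
  have act1 : Acts a b x1 flip₂ := acts_of_gen h haS hbS hfa hfb fun p => by
    rw [coords, flip₂, pow_neg_val (h.exp3 b hbS)]
  obtain ⟨x2, hx2, hx2S, hx21⟩ := hout x1 hx1
  have hinj := coords_inj h haS hbS ha1 hab
  have hco : ∀ {s}, s ∈ S → ∃ p, coords a b p = s := fun {s} hs => by
    have hbij : Function.Bijective (fun p => (⟨coords a b p, coords_mem a b haS hbS p⟩ : S)) :=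
      (Fintype.bijective_iff_injective_and_card _).2 ⟨fun p q e => hinj (congrArg Subtype.val e), by
        rw [← Nat.card_eq_fintype_card (α := S), h.card9, Fintype.card_prod, ZMod.card]⟩
    obtain ⟨p, hp⟩ := hbij.2 ⟨s, hs⟩
    exact ⟨p, congrArg Subtype.val hp⟩
  have hca : coords a b (1, 0) = a := by simp [coords, ZMod.val_one]
  have hcb : coords a b (0, 1) = b := by simp [coords, ZMod.val_one]
  have hcai : coords a b (-1, 0) = a⁻¹ := by
    rw [coords, pow_neg_val (h.exp3 a haS)]; simp [ZMod.val_one]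
  have hcbi : coords a b (0, -1) = b⁻¹ := by
    rw [coords, pow_neg_val (h.exp3 b hbS)]; simp [ZMod.val_one]
  obtain ⟨u, hu⟩ := hco (h.conj_mem hx2 haS)
  obtain ⟨v, hv⟩ := hco (h.conj_mem hx2 hbS)
  have hufix : flip₂ u = u := hinj (by
    rw [← act1 u, hu]
    exact (hcomm hx1 hx2 haS).trans (congrArg (cj x2) hfa))
  have hvfix : flip₂ v = -v := hinj (by
    rw [← act1 v, hv, show x1 * (x2 * b * x2⁻¹) * x1⁻¹ = cj x2 (cj x1 b) from hcomm hx1 hx2 hbS, hfb]
    have : coords a b (-v) = (coords a b v)⁻¹ := by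
      refine eq_inv_of_mul_eq_one_left ?_
      rw [← coords_add h haS hbS, neg_add_cancel]; simp [coords]
    rw [this, hv]; simp only [cj]; group)
  have hu0 : u ≠ 0 := fun e => ha1 (conj_eq_one_iff.1 (by rw [← hu, e]; simp [coords]))
  have hv0 : v ≠ 0 := fun e => hb1 (conj_eq_one_iff.1 (by rw [← hv, e]; simp [coords]))
  have hucase : u = (1, 0) ∨ u = (-1, 0) :=
    (show ∀ u : Pl, flip₂ u = u → u ≠ 0 → u = (1, 0) ∨ u = (-1, 0) by decide) u hufix hu0
  have hvcase : v = (0, 1) ∨ v = (0, -1) :=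
    (show ∀ v : Pl, flip₂ v = -v → v ≠ 0 → v = (0, 1) ∨ v = (0, -1) by decide) v hvfix hv0
  obtain ⟨g, hgN, hg⟩ : ∃ g ∈ N, Acts a b g flip₁ := by
    rcases hucase with rfl | rfl <;> rcases hvcase with rfl | rfl
    · exfalso
      refine hx2S (hC (Subgroup.mem_centralizer_iff.2 fun s hs => ?_))
      obtain ⟨p, rfl⟩ := hco hs
      have := acts_of_gen h haS hbS (g := x2) (hu.symm.trans hca) (hv.symm.trans hcb) (m := id)
        (fun p => rfl) p
      rw [mul_inv_eq_iff_eq_mul] at this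
      exact this.symm
    · exfalso
      refine hx21 (hC (Subgroup.mem_centralizer_iff.2 fun s hs => ?_))
      obtain ⟨p, rfl⟩ := hco hs
      have h2 : Acts a b x2 flip₂ := acts_of_gen h haS hbS (hu.symm.trans hca) (hv.symm.trans hcbi)
        fun p => by rw [coords, flip₂, pow_neg_val (h.exp3 b hbS)]
      have e1 := act1 p
      have e2 := h2 p
      calc coords a b p * (x1⁻¹ * x2) = x1⁻¹ * (x1 * coords a b p * x1⁻¹) * x2 := by group
        _ = x1⁻¹ * (x2 * coords a b p * x2⁻¹) * x2 := by rw [e1, e2]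
        _ = x1⁻¹ * x2 * coords a b p := by group
    · exact ⟨x2, hx2, acts_of_gen h haS hbS (hu.symm.trans hcai) (hv.symm.trans hcb) fun p => by
        rw [coords, flip₁, pow_neg_val (h.exp3 a haS)]⟩
    · refine ⟨x1 * x2, mul_mem hx1 hx2, ?_⟩
      have h2 : Acts a b x2 flip₀ := acts_of_gen h haS hbS (hu.symm.trans hcai) (hv.symm.trans hcbi)
        fun p => by
          rw [coords, flip₀, Prod.fst_neg, Prod.snd_neg, pow_neg_val (h.exp3 a haS),
            pow_neg_val (h.exp3 b hbS)]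
      intro p
      rw [act1.mul h2 p, show (flip₂ ∘ flip₀) p = flip₁ p by revert p; decide]
  refine Coord.klein_normal (mkCoord h a b haS hbS ha1 hab [id, flip₁, flip₂, flip₁ ∘ flip₂]
    Coord.clsKlein ?_ (by decide) (by rw [hN]; rfl) (by decide) (by decide)) (fun _ => rfl) hN
  intro m hm
  simp only [List.mem_cons, List.not_mem_nil, or_false] at hm
  rcases hm with rfl | rfl | rfl | rfl
  · exact ⟨1, one_mem _, acts_one⟩
  · exact ⟨g, hgN, hg⟩
  · exact ⟨x1, hx1, act1⟩
  · exact ⟨g * x1, mul_mem hgN hx1, hg.mul act1⟩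

/-- Inversion pattern. -/
theorem inversion_top (h : Hyp S) (hN : Nat.card (Subgroup.normalizer (S : Set G)) = 18)
    {x : G} (hx : x ∈ Subgroup.normalizer (S : Set G)) (hinv : ∀ s ∈ S, x * s * x⁻¹ = s⁻¹) :
    Subgroup.normalizer (S : Set G) = ⊤ := by
  obtain ⟨a, ha, ha1⟩ := h.exists_ne_one
  obtain ⟨b, hb, hab⟩ : ∃ b ∈ S, b ∉ Subgroup.zpowers a := by
    by_contra hno
    push Not at hno
    have h1 : Nat.card S ≤ Nat.card (Subgroup.zpowers a) := Subgroup.card_le_of_le hno
    rw [h.card9, Nat.card_zpowers] at h1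
    have h2 := Nat.le_of_dvd (by norm_num) (orderOf_dvd_of_pow_eq_one (h.exp3 a ha))
    omega
  have act : Acts a b x flip₀ := acts_of_gen h ha hb (hinv a ha) (hinv b hb) fun p => by
    rw [coords, flip₀, Prod.fst_neg, Prod.snd_neg, pow_neg_val (h.exp3 a ha), pow_neg_val (h.exp3 b hb)]
  refine Coord.lines_normal (mkCoord h a b ha hb ha1 hab [id, flip₀] Coord.clsLines ?_ (by decide)
    (by rw [hN]; rfl) (by decide) (by decide)) (fun _ => rfl) hN
  intro m hm
  simp only [List.mem_cons, List.not_mem_nil, or_false] at hm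
  rcases hm with rfl | rfl
  · exact ⟨1, one_mem _, acts_one⟩
  · exact ⟨x, hx, act⟩

/-- Quarter turn pattern. -/
theorem cyclic_order [IsSimpleGroup G] (hna : ¬ IsMulCommutative G) (h : Hyp S)
    (hN : Nat.card (Subgroup.normalizer (S : Set G)) = 36) (hnn : Subgroup.normalizer (S : Set G) ≠ ⊤)
    {x : G} (hx : x ∈ Subgroup.normalizer (S : Set G))
    (hinv : ∀ s ∈ S, (x * x) * s * (x * x)⁻¹ = s⁻¹) : Nat.card G = 360 := by
  obtain ⟨a, ha, ha1⟩ := h.exists_ne_one
  set b := x * a * x⁻¹ with hb0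
  have hb : b ∈ S := h.conj_mem hx ha
  have hxb : x * b * x⁻¹ = a⁻¹ := by
    rw [hb0, show x * (x * a * x⁻¹) * x⁻¹ = (x * x) * a * (x * x)⁻¹ by group]; exact hinv a ha
  have hab : b ∉ Subgroup.zpowers a := by
    rintro ⟨i, hi⟩
    refine ha1 ?_
    have h1 : x * a ^ i * x⁻¹ = a⁻¹ := by rw [show a ^ i = b from hi]; exact hxb
    rw [← conj_zpow, ← hb0, ← hi, ← zpow_mul] at h1
    have h2 : a ^ (i * i + 1) = 1 := by rw [zpow_add_one, h1, inv_mul_cancel]
    have ho : orderOf a = 3 :=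
      (Nat.prime_three.eq_one_or_self_of_dvd _ (orderOf_dvd_of_pow_eq_one (h.exp3 a ha))).resolve_left
        fun e => ha1 (orderOf_eq_one_iff.1 e)
    have h3 := orderOf_dvd_iff_zpow_eq_one.2 h2
    rw [ho] at h3
    exfalso
    have : (i * i + 1) % 3 ≠ 0 := by
      have := Int.emod_emod_of_dvd i (dvd_refl (3 : ℤ))
      rcases (show i % 3 = 0 ∨ i % 3 = 1 ∨ i % 3 = 2 by omega) with hi3 | hi3 | hi3 <;>
        rw [Int.add_emod, Int.mul_emod, hi3] <;> norm_num
    omega
  have act : Acts a b x turn := acts_of_gen h ha hb hb0.symm hxb fun p => by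
    rw [coords, turn, pow_neg_val (h.exp3 a ha)]
    exact (h.comm (pow_mem (inv_mem ha) _) (pow_mem hb _)).eq.symm
  refine Coord.cyclic_card hna (mkCoord h a b ha hb ha1 hab [id, turn, turn ∘ turn, turn ∘ turn ∘ turn]
    Coord.clsWeight ?_ (by decide) (by rw [hN]; rfl) (by decide) (by decide)) (fun _ => rfl) hN hnn
  intro m hm
  simp only [List.mem_cons, List.not_mem_nil, or_false] at hm
  rcases hm with rfl | rfl | rfl | rfl
  · exact ⟨1, one_mem _, acts_one⟩
  · exact ⟨x, hx, act⟩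
  · exact ⟨x * x, mul_mem hx hx, act.mul act⟩
  · exact ⟨x * (x * x), mul_mem hx (mul_mem hx hx), act.mul (act.mul act)⟩

end CfsgLib.Char.SylowNine
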